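import Groth.Agent.EtPBC.K349.NagataChart
import Groth.Agent.S0567
import Groth.Agent.S0137
import Groth.Agent.S0143
import Groth.Agent.EtpbcA.NoethSub
import Groth.Agent.EtpbcA.StrataGlob
import Groth.Agent.EtpbcA.ConsExact
import Groth.Agent.EtpbcA.OverSite2
import Groth.Agent.EtpbcA.ConsPull
import Groth.Agent.EtpbcA.ConstrTop
import Groth.Agent.EtpbcA.KilledBy
import Groth.Agent.EtpbcA.Present2
import Groth.Agent.Etrest.ConstBasic
import Groth.Agent.Sga4B.ConstLC
import Groth.Agent.Sga4B.EtaleDomain
import Groth.Agent.Sga4B.ExtendLC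

/-!
# Direct images of constructible sheaves along quasi-finite morphisms over a Nagata scheme
-/

set_option autoImplicit false
universe u

open CategoryTheory CategoryTheory.Limits AlgebraicGeometry Opposite Topology

namespace K349.NagataPush

open Groth.Agent Groth.Agent.EtpbcA Groth.Agent.EtpbcA.ConsVan Groth.Agent.EtpbcA.ConsPull

section Joint

variable {Y : Scheme.{u}} {n : ℕ} (Z : Fin n → Scheme.{u}) (f : ∀ i, Z i ⟶ Y)
  (hcov : ∀ y : Y, ∃ i, y ∈ Set.range (f i)) (F : EtCoh.Ab Y)

include hcov in
theorem eq_zero_of_units {U : Y.Etale} (s : EtCoh.sect F U) (h : ∀ i, eta (f i) F U s = 0) :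
    s = 0 := by
  refine eq_zero_of_van s fun x => ?_
  obtain ⟨i, z, hz⟩ := hcov (U.hom x)
  obtain ⟨w, hw1, hw2⟩ := Scheme.Pullback.exists_preimage_pullback (f := U.hom) (g := f i) x z hz.symm
  have h1 := (van_eta_iff (f i) F s w).1 (van_zero_of_eq (h i) w)
  have h2 : fstBc (f i) U w = x := hw1
  rwa [h2] at h1

include hcov in
theorem mono_lift : Mono (biproduct.lift fun i => (EtCoh.pullPushAdj (f i)).unit.app F) := by
  refine Preadditive.mono_of_cancel_zero _ fun {G} g hg => ?_
  have h1 : ∀ i, g ≫ (EtCoh.pullPushAdj (f i)).unit.app F = 0 := by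
    intro i
    rw [← biproduct.lift_π (fun i => (EtCoh.pullPushAdj (f i)).unit.app F) i, ← Category.assoc, hg,
      zero_comp]
  ext U z
  refine eq_zero_of_units Z f hcov F (U := U.unop) _ fun i => ?_
  have h2 := congrArg (fun (k : G ⟶ _) => k.hom.app U z) (h1 i)
  exact h2

end Joint

theorem isConstructible_biproduct {X : Scheme.{u}} [CompactSpace X] [QuasiSeparatedSpace X] (b : ℕ)
    (F : Fin b → EtCoh.Ab X) (hF : ∀ i, EtPBC.IsConstructible (F i)) :
    EtPBC.IsConstructible (⨁ F) := by
  choose k hk hk' using fun i => KilledBy.exists_killedBy_of_isConstructible (hF i)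
  refine Present2.isConstructible_biproduct (n := ∏ i, k i) (Finset.prod_pos fun i _ => hk i) b _ hF
    fun i => ?_
  obtain ⟨c, hcc⟩ := Finset.dvd_prod_of_mem k (Finset.mem_univ i)
  intro V s
  rw [hcc, mul_comm, mul_smul, hk' i V s, smul_zero]

/-- If `F` embeds in a finite direct sum of sheaves with constructible direct images, its direct
image is constructible (Noetherian target). -/
theorem isConstructible_push_of_mono {X Y : Scheme.{u}} [IsNoetherian X] (q : Y ⟶ X) {n : ℕ}
    (G : Fin n → EtCoh.Ab Y) {F : EtCoh.Ab Y} (i : F ⟶ ⨁ G) [Mono i]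
    (h : ∀ k, EtPBC.IsConstructible ((EtCoh.push q).obj (G k))) :
    EtPBC.IsConstructible ((EtCoh.push q).obj F) := by
  have : (EtCoh.push q).IsRightAdjoint := (EtCoh.pullPushAdj q).isRightAdjoint
  have h1 : EtPBC.IsConstructible ((EtCoh.push q).obj (⨁ G)) :=
    StrataGlob.isConstructible_of_iso ((EtCoh.push q).mapBiproduct G).symm
      (isConstructible_biproduct n _ h)
  exact NoethSub.isConstructible_of_mono ((EtCoh.push q).map i) h1

theorem isConstructible_push_of_cover {X Y : Scheme.{u}} [IsNoetherian X] (q : Y ⟶ X) {n : ℕ}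
    (Z : Fin n → Scheme.{u}) (f : ∀ i, Z i ⟶ Y) (hcov : ∀ y : Y, ∃ i, y ∈ Set.range (f i))
    (F : EtCoh.Ab Y)
    (h : ∀ i, EtPBC.IsConstructible ((EtCoh.push (f i ≫ q)).obj ((EtCoh.pull (f i)).obj F))) :
    EtPBC.IsConstructible ((EtCoh.push q).obj F) := by
  have hm := mono_lift Z f hcov F
  refine @isConstructible_push_of_mono X Y _ q n
    (fun i => (EtCoh.push (f i)).obj ((EtCoh.pull (f i)).obj F)) F _ hm fun i => ?_
  exact StrataGlob.isConstructible_of_iso ((EtCoh.pushComp q (f i)).app _).symm (h i)

/-- A constant sheaf on a normal integral scheme is the direct image of its restriction to a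
nonempty quasi-compact open. -/
theorem isIso_unit_const {W V : Scheme.{u}} [IsIntegral W] (hW : Pi1.IsNormalScheme W)
    (j : V ⟶ W) [IsOpenImmersion j] [QuasiCompact j] [Nonempty V] (M : Type) [AddCommGroup M] :
    IsIso ((EtCoh.pullPushAdj j).unit.app (EtCoh.const W M)) := by
  rw [Sga4B.ConstLC.isIso_unit_const_iff]
  apply Sga4B.ConstLC.isIso_LCres
  intro E
  have hdom : ∀ v : E.left, IsDomain (E.left.presheaf.stalk v) := fun v =>
    Sga4B.EtaleDomain.isDomain_stalk_of_etale E.hom v (hW _).1 (hW _).2
  have hopen : IsOpenMap E.hom := E.hom.isOpenMap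
  have hr : Set.range (pullback.fst E.hom j) = E.hom ⁻¹' (Set.range j) :=
    Scheme.Pullback.range_fst E.hom j
  refine Sga4B.ExtendLC.comap_bijective (pullback.fst E.hom j) ?_ ?_ ?_ hdom _
  · change Dense (Set.range (pullback.fst E.hom j))
    rw [hr]
    exact Dense.preimage (j.isOpenEmbedding.isOpen_range.dense (Set.range_nonempty j)) hopen
  · exact (pullback.fst E.hom j).isOpenEmbedding.isInducing
  · exact (pullback.fst E.hom j).isOpenEmbedding.isOpen_range.stableUnderGeneralization

/-- The constant case over a Nagata ring, for one chart. -/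
theorem isConstructible_chart {R S : Type u} [CommRing R] [IsNoetherianRing R] [CommRing S]
    [IsDomain S] [IsIntegrallyClosed S] (α : R →+* S) (hα : α.Finite) (r : S) (hr : r ≠ 0)
    (M : Type) [AddCommGroup M] [Finite M] :
    EtPBC.IsConstructible ((EtCoh.push
      (Spec.map (CommRingCat.ofHom (algebraMap S (Localization.Away r))) ≫
        Spec.map (CommRingCat.ofHom α))).obj
      (EtCoh.const (Spec (CommRingCat.of (Localization.Away r))) M)) := by
  have hdom : IsDomain (Localization.Away r) :=
    IsLocalization.isDomain_localization (powers_le_nonZeroDivisors_of_noZeroDivisors hr)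
  have hN : Pi1.IsNormalScheme (Spec (CommRingCat.of S)) := by
    intro x
    have hx : x.asIdeal.IsPrime := x.isPrime
    let _ : Algebra S ((Spec (CommRingCat.of S)).presheaf.stalk x) :=
      StructureSheaf.stalkAlgebra S x
    have h1 : IsLocalization.AtPrime ((Spec (CommRingCat.of S)).presheaf.stalk x) x.asIdeal :=
      StructureSheaf.IsLocalization.to_stalk S x
    have h2 : IsDomain ((Spec (CommRingCat.of S)).presheaf.stalk x) :=
      IsLocalization.isDomain_of_atPrime _ x.asIdeal
    exact ⟨h2, isIntegrallyClosed_of_isLocalization _ x.asIdeal.primeCompl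
      x.asIdeal.primeCompl_le_nonZeroDivisors⟩
  have hfin : IsFinite (Spec.map (CommRingCat.ofHom α)) := by
    rw [IsFinite.SpecMap_iff]
    exact hα
  have hfp : LocallyOfFinitePresentation (Spec.map (CommRingCat.ofHom α)) :=
    LocallyOfFinitePresentation.iff_locallyOfFiniteType.2 inferInstance
  have hiso := isIso_unit_const hN
    (Spec.map (CommRingCat.ofHom (algebraMap S (Localization.Away r)))) M
  refine StrataGlob.isConstructible_of_iso ((EtCoh.pushComp (Spec.map (CommRingCat.ofHom α))
    (Spec.map (CommRingCat.ofHom (algebraMap S (Localization.Away r))))).app _) ?_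
  refine Groth.Agent.S0137.result _ _ ?_
  refine StrataGlob.isConstructible_of_iso ((EtCoh.push _).mapIso
    (Sga4B.ConstLC.pullConstIso (Spec.map (CommRingCat.ofHom (algebraMap S (Localization.Away r)))) M)) ?_
  refine StrataGlob.isConstructible_of_iso (asIso ((EtCoh.pullPushAdj _).unit.app
    (EtCoh.const (Spec (CommRingCat.of S)) M))) ?_
  exact Etrest.ConstBasic.isConstructible_const _ M

/-- The case of a constant sheaf and an affine base. -/
theorem isConstructible_const_affine {R : Type u} [CommRing R] (hR : CAlg.IsNagata R)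
    {Y : Scheme.{u}} (q : Y ⟶ Spec (CommRingCat.of R)) [LocallyQuasiFinite q]
    [LocallyOfFiniteType q] [QuasiCompact q] (M : Type) [AddCommGroup M] [Finite M] :
    EtPBC.IsConstructible ((EtCoh.push q).obj (EtCoh.const Y M)) := by
  have hRN : IsNoetherianRing R := hR.1
  have hYN : IsLocallyNoetherian Y := LocallyOfFiniteType.isLocallyNoetherian q
  have hYc : CompactSpace Y := QuasiCompact.compactSpace_of_compactSpace q
  have hYN' : IsNoetherian Y := {}
  choose S i1 i2 i3 α hα r hr f hy hf using NagataChart.exists_chart hR q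
  have hft : ∀ y, LocallyOfFiniteType (f y) := fun y => by
    have h1 : (α y).FiniteType := (hα y).to_finiteType
    have h2 : LocallyOfFiniteType (Spec.map (CommRingCat.ofHom (α y))) :=
      (HasRingHomProperty.Spec_iff (P := @LocallyOfFiniteType)).2 h1
    have h3 : LocallyOfFiniteType (f y ≫ q) := by
      rw [hf]
      infer_instance
    exact locallyOfFiniteType_of_comp (f y) q
  have hfp : ∀ y, LocallyOfFinitePresentation (f y) := fun y =>
    LocallyOfFinitePresentation.iff_locallyOfFiniteType.2 (hft y)
  have hcons : ∀ y, IsConstructible (Set.range (f y)) := fun y => by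
    rw [← Set.image_univ]
    exact (f y).isConstructible_image IsConstructible.univ
  obtain ⟨t, ht⟩ := ConstrTop.finite_subcover (fun y => Set.range (f y)) hcons
    (Set.eq_univ_iff_forall.2 fun y => Set.mem_iUnion.2 ⟨y, hy y⟩)
  refine isConstructible_push_of_cover q (n := t.card)
    (fun i => Spec (CommRingCat.of (Localization.Away (r (t.equivFin.symm i)))))
    (fun i => f (t.equivFin.symm i)) ?_ _ fun i => ?_
  · intro y
    have hy := ht.symm ▸ Set.mem_univ y
    simp only [Set.mem_iUnion] at hy
    obtain ⟨z, hz, h1⟩ := hy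
    refine ⟨t.equivFin ⟨z, hz⟩, ?_⟩
    have h2 : ∀ w : Y, w = z → y ∈ Set.range (f w) := by
      rintro w rfl
      exact h1
    exact h2 _ (congrArg Subtype.val (t.equivFin.symm_apply_apply ⟨z, hz⟩))
  · generalize (t.equivFin.symm i : Y) = y
    refine StrataGlob.isConstructible_of_iso ((EtCoh.push (f y ≫ q)).mapIso
      (Sga4B.ConstLC.pullConstIso (f y) M)).symm ?_
    refine StrataGlob.isConstructible_of_iso ((EtCoh.pushCongr (hf y)).app _).symm ?_
    exact isConstructible_chart (α y) (hα y) (r y) (hr y) M

/-- The case of an affine base. -/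
theorem isConstructible_affine {R : Type u} [CommRing R] (hR : CAlg.IsNagata R)
    {Y : Scheme.{u}} (q : Y ⟶ Spec (CommRingCat.of R)) [LocallyQuasiFinite q]
    [LocallyOfFiniteType q] [QuasiCompact q] (F : EtCoh.Ab Y) (hF : EtPBC.IsConstructible F) :
    EtPBC.IsConstructible ((EtCoh.push q).obj F) := by
  have hRN : IsNoetherianRing R := hR.1
  have hYN : IsLocallyNoetherian Y := LocallyOfFiniteType.isLocallyNoetherian q
  have hYc : CompactSpace Y := QuasiCompact.compactSpace_of_compactSpace q
  have hYN' : IsNoetherian Y := {}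
  obtain ⟨n, Z, f, hf, M, i1, i2, H⟩ := Groth.Agent.S0143.result Y F hF
  obtain ⟨i, hi⟩ := H
  refine isConstructible_push_of_mono q _ i fun k => ?_
  have := hf k
  have := i2 k
  refine StrataGlob.isConstructible_of_iso ((EtCoh.pushComp q (f k)).app _).symm ?_
  exact isConstructible_const_affine hR (f k ≫ q) (M k)

end K349.NagataPush
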