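import Groth.Agent.EtpbcA.ConsDescent
import Groth.Agent.EtpbcA.ConsSpread
import Groth.Agent.EtpbcA.ConsFLC
import Groth.Agent.EtpbcA.EqLocus
import Mathlib.AlgebraicGeometry.Morphisms.UniversallyOpen

/-!
# Finite locally constant sheaves descend along universally open surjective morphisms
-/

set_option autoImplicit false
universe u

open CategoryTheory CategoryTheory.Limits AlgebraicGeometry Opposite Topology

namespace K349.FLCOpenDesc

open Groth.Agent Groth.Agent.EtpbcA Groth.Agent.EtpbcA.ConsVan Groth.Agent.EtpbcA.ConsPull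

variable {X : Scheme.{u}} (F : EtCoh.Ab X)

theorem exists_good_of_isFLC_pull {X' : Scheme.{u}} (f : X' ⟶ X) [UniversallyOpen f] (x' : X')
    (h : EtCoh.IsFiniteLocallyConstant ((EtCoh.pull f).obj F)) :
    ∃ (V : X.Etale) (v : V.left) (_ : V.hom v = f x') (M : Type) (_ : AddCommGroup M)
      (_ : Finite M) (φ : M →+ EtCoh.sect F V), ∀ y, InjAt F φ y ∧ SurjAt F φ y := by
  obtain ⟨V, v, hv, M, i1, i2, φ, hφ⟩ := (ConsFLC.isFLC_iff _).1 h x'
  obtain ⟨U', φ', W, a, b, w, haw, hab⟩ := ConsSpread.exists_spread f F v φ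
  let k : W.left ⟶ U'.left := b.left ≫ fstBc f U'
  have hgood : ∀ w', InjAt F φ' (k w') ∧ SurjAt F φ' (k w') := by
    intro w'
    have e : resHom b ((eta f F U').comp φ') = resHom a φ := by
      ext m
      exact (hab m).symm
    have h1 : InjAt ((EtCoh.pull f).obj F) (resHom b ((eta f F U').comp φ')) w' ∧
        SurjAt ((EtCoh.pull f).obj F) (resHom b ((eta f F U').comp φ')) w' := by
      rw [e, injAt_res_iff, surjAt_res_iff]
      exact hφ _
    rw [injAt_res_iff, surjAt_res_iff, injAt_eta_iff, surjAt_eta_iff] at h1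
    exact h1
  have hko : IsOpen (Set.range k) := by
    have h1 : Etale b.left := inferInstance
    have h2 : UniversallyOpen (fstBc f U') :=
      inferInstanceAs (UniversallyOpen (pullback.fst U'.hom f))
    have h3 : UniversallyOpen (b.left ≫ fstBc f U') := inferInstance
    exact (Scheme.Hom.isOpenMap (b.left ≫ fstBc f U')).isOpen_range
  let O : U'.left.Opens := ⟨Set.range k, hko⟩
  refine ⟨EqLocus.openSub U' O, ⟨k w, ⟨w, rfl⟩⟩, ?_, M, i1, i2, resHom (EqLocus.openι U' O) φ',
    fun y => ?_⟩
  · have h1 : U'.hom (k w) = f x' := by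
      have e1 : fstBc f U' ≫ U'.hom = ((EtCoh.bc f).obj U').hom ≫ f := pullback.condition
      have e2 : b.left ≫ ((EtCoh.bc f).obj U').hom = W.hom := MorphismProperty.Over.w b
      have e3 : a.left ≫ V.hom = W.hom := MorphismProperty.Over.w a
      have e4 : k ≫ U'.hom = a.left ≫ V.hom ≫ f := by
        rw [← Category.assoc, e3, ← e2, Category.assoc, Category.assoc, e1]
      have e5 := congrArg (fun (q : W.left ⟶ X) => q w) e4
      have e6 : U'.hom (k w) = f (V.hom (a.left w)) := e5
      rw [e6, haw, hv]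
    exact h1
  · rw [injAt_res_iff, surjAt_res_iff]
    have h2 : (EqLocus.openι U' O).left y ∈ Set.range k := by
      have := EqLocus.range_openι U' O
      have h3 : (EqLocus.openι U' O).left y ∈ Set.range (EqLocus.openι U' O).left := ⟨y, rfl⟩
      rw [this] at h3
      exact h3
    obtain ⟨w', hw'⟩ := h2
    rw [← hw']
    exact hgood w'

/-- Descent of finite local constancy along universally open morphisms, locally. -/
theorem isFLC_of_pull
    (h : ∀ x : X, ∃ (X' : Scheme.{u}) (f : X' ⟶ X) (_ : UniversallyOpen f) (x' : X'), f x' = x ∧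
      EtCoh.IsFiniteLocallyConstant ((EtCoh.pull f).obj F)) :
    EtCoh.IsFiniteLocallyConstant F := by
  rw [ConsFLC.isFLC_iff]
  intro x
  obtain ⟨X', f, hf, x', hx', hF⟩ := h x
  obtain ⟨V, v, hv, M, i1, i2, φ, hφ⟩ := exists_good_of_isFLC_pull F f x' hF
  exact ⟨V, v, hv.trans hx', M, i1, i2, φ, hφ⟩

end K349.FLCOpenDesc
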