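import Groth.Agent.EtpbcA.ConstrTop
import Mathlib.AlgebraicGeometry.Morphisms.Immersion
import Mathlib.AlgebraicGeometry.Morphisms.FinitePresentation
import Mathlib.AlgebraicGeometry.Cover.Open
import Mathlib.RingTheory.Localization.Away.AdjoinRoot

/-!
# Finite partitions of a quasi-compact quasi-separated scheme into finitely presented affine
subschemes with a property stable under restriction
-/

set_option autoImplicit false
universe u

open CategoryTheory CategoryTheory.Limits AlgebraicGeometry Topology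

namespace K349.FPPartition

section Atom

variable {A : Type u} [CommRing A] (G E : Finset A)

/-- The ideal of the elements of `G` outside `E`. -/
def atomIdeal : Ideal A := Ideal.span {a | a ∈ G ∧ a ∉ E}

/-- The ring of the locally closed subset `a ∉ 𝔮` for `a ∈ E`, `a ∈ 𝔮` for `a ∈ G ∖ E`. -/
abbrev Atom : Type u :=
  Localization.Away (Ideal.Quotient.mk (atomIdeal G E) (∏ a ∈ E, a))

/-- The structure morphism of `Atom G E`. -/
noncomputable def atomHom : A →+* Atom G E :=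
  (algebraMap (A ⧸ atomIdeal G E) (Atom G E)).comp (Ideal.Quotient.mk (atomIdeal G E))

theorem atomIdeal_fg : (atomIdeal G E).FG := by
  classical
  refine ⟨G.filter (fun a => a ∉ E), ?_⟩
  rw [atomIdeal]
  congr 1
  ext a
  simp

theorem atomHom_eq_zero {a : A} (ha : a ∈ G) (ha' : a ∉ E) : atomHom G E a = 0 := by
  have : Ideal.Quotient.mk (atomIdeal G E) a = 0 :=
    Ideal.Quotient.eq_zero_iff_mem.2 (Ideal.subset_span ⟨ha, ha'⟩)
  rw [atomHom, RingHom.comp_apply, this, map_zero]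

theorem isUnit_atomHom {a : A} (ha : a ∈ E) : IsUnit (atomHom G E a) := by
  have h : IsUnit (algebraMap (A ⧸ atomIdeal G E) (Atom G E)
      (Ideal.Quotient.mk (atomIdeal G E) (∏ a ∈ E, a))) :=
    IsLocalization.Away.algebraMap_isUnit _
  refine isUnit_of_dvd_unit ?_ h
  rw [atomHom, RingHom.comp_apply]
  exact map_dvd _ (map_dvd _ (Finset.dvd_prod_of_mem _ ha))

theorem range_atom :
    Set.range (Spec.map (CommRingCat.ofHom (atomHom G E))) =
      {q : PrimeSpectrum A | (∀ a ∈ G, a ∉ E → a ∈ q.asIdeal) ∧ ∀ a ∈ E, a ∉ q.asIdeal} := by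
  have h1 : Set.range (Spec.map (CommRingCat.ofHom (atomHom G E))) =
      PrimeSpectrum.comap (Ideal.Quotient.mk (atomIdeal G E)) ''
        (Set.range (PrimeSpectrum.comap (algebraMap (A ⧸ atomIdeal G E) (Atom G E)))) := by
    rw [← Set.range_comp]
    rfl
  rw [h1, PrimeSpectrum.localization_away_comap_range (Atom G E)
    (Ideal.Quotient.mk (atomIdeal G E) (∏ a ∈ E, a))]
  ext q
  constructor
  · rintro ⟨r, hr, rfl⟩
    refine ⟨fun a ha ha' => ?_, fun a ha => ?_⟩
    · change Ideal.Quotient.mk (atomIdeal G E) a ∈ r.asIdeal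
      have h0 : Ideal.Quotient.mk (atomIdeal G E) a = 0 :=
        Ideal.Quotient.eq_zero_iff_mem.2 (Ideal.subset_span ⟨ha, ha'⟩)
      rw [h0]
      exact zero_mem _
    · intro hm
      apply hr
      change Ideal.Quotient.mk (atomIdeal G E) a ∈ r.asIdeal at hm
      exact Ideal.mem_of_dvd _ (map_dvd _ (Finset.dvd_prod_of_mem _ ha)) hm
  · rintro ⟨h2, h3⟩
    have hle : atomIdeal G E ≤ q.asIdeal := Ideal.span_le.2 fun a ha => h2 a ha.1 ha.2
    have h4 : q ∈ Set.range (PrimeSpectrum.comap (Ideal.Quotient.mk (atomIdeal G E))) := by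
      rw [range_comap_of_surjective _ _ Ideal.Quotient.mk_surjective,
        Ideal.mk_ker]
      exact hle
    obtain ⟨r, rfl⟩ := h4
    refine ⟨r, ?_, rfl⟩
    intro hm
    have h5 : (∏ a ∈ E, a) ∈ (PrimeSpectrum.comap (Ideal.Quotient.mk (atomIdeal G E)) r).asIdeal := hm
    rw [Ideal.IsPrime.prod_mem_iff] at h5
    obtain ⟨a, ha, ha'⟩ := h5
    exact h3 a ha ha'

instance : IsImmersion (Spec.map (CommRingCat.ofHom (atomHom G E))) := by
  rw [atomHom, CommRingCat.ofHom_comp, Spec.map_comp]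
  have : IsClosedImmersion (Spec.map (CommRingCat.ofHom (Ideal.Quotient.mk (atomIdeal G E)))) :=
    IsClosedImmersion.spec_of_surjective _ Ideal.Quotient.mk_surjective
  infer_instance

instance : LocallyOfFinitePresentation (Spec.map (CommRingCat.ofHom (atomHom G E))) := by
  rw [LocallyOfFinitePresentation.SpecMap_iff]
  have h1 : (Ideal.Quotient.mk (atomIdeal G E)).FinitePresentation := by
    have : Algebra.FinitePresentation A (A ⧸ atomIdeal G E) :=
      Algebra.FinitePresentation.quotient (atomIdeal_fg G E)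
    exact RingHom.finitePresentation_algebraMap.2 this
  have h2 : (algebraMap (A ⧸ atomIdeal G E) (Atom G E)).FinitePresentation :=
    RingHom.finitePresentation_algebraMap.2 (IsLocalization.Away.finitePresentation
      (Ideal.Quotient.mk (atomIdeal G E) (∏ a ∈ E, a)))
  exact h2.comp h1

end Atom

/-- The local hypothesis at a prime `q` of the ring of a chart `j : Spec A → Y`. -/
def Loc {Y : Scheme.{u}} (Φ : ∀ ⦃T : Scheme.{u}⦄, (T ⟶ Y) → Prop) {A : CommRingCat.{u}}
    (j : Spec A ⟶ Y) (q : PrimeSpectrum A) : Prop :=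
  ∃ (F : Finset A) (g : A), (∀ a ∈ F, a ∈ q.asIdeal) ∧ g ∉ q.asIdeal ∧
    ∀ (B : Type u) [CommRing B] (φ : A →+* B), (∀ a ∈ F, φ a = 0) → IsUnit (φ g) →
      Φ (Spec.map (CommRingCat.ofHom φ) ≫ j)

/-- In an affine chart, finitely many basic constructible sets suffice. -/
theorem exists_finite {Y : Scheme.{u}} (Φ : ∀ ⦃T : Scheme.{u}⦄, (T ⟶ Y) → Prop)
    {A : CommRingCat.{u}} (j : Spec A ⟶ Y) (h : ∀ q, Loc Φ j q) :
    ∃ (n : ℕ) (F : Fin n → Finset A) (g : Fin n → A),
      (∀ q : PrimeSpectrum A, ∃ k, (∀ a ∈ F k, a ∈ q.asIdeal) ∧ g k ∉ q.asIdeal) ∧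
      ∀ (k) (B : Type u) [CommRing B] (φ : A →+* B), (∀ a ∈ F k, φ a = 0) → IsUnit (φ (g k)) →
        Φ (Spec.map (CommRingCat.ofHom φ) ≫ j) := by
  choose F g hF hg H using h
  have hC : ∀ q : PrimeSpectrum A, IsConstructible
      (PrimeSpectrum.zeroLocus (F q : Set A) ∩ (PrimeSpectrum.basicOpen (g q) : Set (PrimeSpectrum A))) := by
    intro q
    refine IsConstructible.inter ?_ ?_
    · have h1 := (PrimeSpectrum.isRetrocompact_zeroLocus_compl (F q).finite_toSet).isConstructible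
        (PrimeSpectrum.isClosed_zeroLocus _).isOpen_compl
      simpa using h1.compl
    · exact PrimeSpectrum.isRetrocompact_basicOpen.isConstructible (PrimeSpectrum.basicOpen _).isOpen
  obtain ⟨t, ht⟩ := Groth.Agent.EtpbcA.ConstrTop.finite_subcover
    (fun q : PrimeSpectrum A => PrimeSpectrum.zeroLocus (F q : Set A) ∩
      (PrimeSpectrum.basicOpen (g q) : Set (PrimeSpectrum A))) hC (by
      refine Set.eq_univ_iff_forall.2 fun q => Set.mem_iUnion.2 ⟨q, ?_, ?_⟩
      · exact fun a ha => hF q a ha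
      · exact hg q)
  refine ⟨t.card, fun k => F (t.equivFin.symm k), fun k => g (t.equivFin.symm k), ?_, ?_⟩
  · intro q
    have hq := ht.symm ▸ Set.mem_univ q
    simp only [Set.mem_iUnion] at hq
    obtain ⟨r, hr, h1, h2⟩ := hq
    refine ⟨t.equivFin ⟨r, hr⟩, ?_, ?_⟩
    · simp only [Equiv.symm_apply_apply]
      exact fun a ha => h1 ha
    · simp only [Equiv.symm_apply_apply]
      exact h2
  · intro k B _ φ h1 h2
    exact H _ B φ h1 h2

theorem exists_partition {Y : Scheme.{u}} [CompactSpace Y] [QuasiSeparatedSpace Y]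
    (Φ : ∀ ⦃T : Scheme.{u}⦄, (T ⟶ Y) → Prop)
    (h : ∀ (A : CommRingCat.{u}) (j : Spec A ⟶ Y) [IsOpenImmersion j] (q : PrimeSpectrum A),
      Loc Φ j q) :
    ∃ (m : ℕ) (T : Fin m → Scheme.{u}) (e : ∀ i, T i ⟶ Y),
      (∀ i, IsImmersion (e i) ∧ LocallyOfFinitePresentation (e i) ∧ QuasiCompact (e i)) ∧
      Pairwise (fun i j => Disjoint (Set.range (e i)) (Set.range (e j))) ∧
      (⋃ i, Set.range (e i)) = Set.univ ∧ ∀ i, Φ (e i) := by
  classical
  -- a finite family of charts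
  obtain ⟨n, A, j, hj, hcov⟩ : ∃ (n : ℕ) (A : Fin n → CommRingCat.{u}) (j : ∀ i, Spec (A i) ⟶ Y),
      (∀ i, IsOpenImmersion (j i)) ∧ ∀ y : Y, ∃ i, y ∈ Set.range (j i) := by
    let 𝒰 := Y.affineCover.finiteSubcover
    let e := Fintype.equivFin 𝒰.I₀
    have haff : ∀ i, IsAffine (𝒰.X i) := fun i => inferInstance
    refine ⟨Fintype.card 𝒰.I₀, fun i => Γ(𝒰.X (e.symm i), ⊤), fun i =>
      (𝒰.X (e.symm i)).isoSpec.inv ≫ 𝒰.f (e.symm i), fun i => inferInstance, ?_⟩
    intro y
    obtain ⟨i, x, hx⟩ := 𝒰.exists_eq y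
    refine ⟨e i, ?_⟩
    rw [Scheme.Hom.comp_base, TopCat.coe_comp, Set.range_comp]
    have : Set.range (𝒰.X (e.symm (e i))).isoSpec.inv = Set.univ :=
      Set.range_eq_univ.2 (inferInstance : Surjective (𝒰.X (e.symm (e i))).isoSpec.inv).surj
    rw [this, Set.image_univ, Equiv.symm_apply_apply]
    exact ⟨x, hx⟩
  choose nn F g hFg HFg using fun i => exists_finite Φ (j i) (h (A i) (j i))
  -- intersections of charts
  have hH : ∀ i i' : Fin n, ∃ t : Finset (A i), ∀ q : PrimeSpectrum (A i),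
      j i q ∈ Set.range (j i') ↔ ∃ a ∈ t, a ∉ q.asIdeal := by
    intro i i'
    have h1 : IsCompact (j i ⁻¹' (Set.range (j i'))) := by
      have hq : QuasiCompact (j i) := inferInstance
      exact hq.isCompact_preimage _ (j i').isOpenEmbedding.isOpen_range
        (isCompact_range (j i').continuous)
    have h2 : IsOpen (j i ⁻¹' (Set.range (j i'))) :=
      (j i').isOpenEmbedding.isOpen_range.preimage (j i).continuous
    obtain ⟨t, ht⟩ := (PrimeSpectrum.isCompact_isOpen_iff (R := A i)).1 ⟨h1, h2⟩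
    refine ⟨t, fun q => ?_⟩
    have h3 : q ∈ (PrimeSpectrum.zeroLocus (t : Set (A i)))ᶜ ↔ j i q ∈ Set.range (j i') :=
      iff_of_eq (congrArg (fun S : Set (PrimeSpectrum (A i)) => q ∈ S) ht)
    refine h3.symm.trans ?_
    rw [Set.mem_compl_iff, PrimeSpectrum.mem_zeroLocus, Set.not_subset]
    rfl
  choose H hH using hH
  -- the finite sets of functions
  let G : ∀ i, Finset (A i) := fun i =>
    (Finset.univ.biUnion (F i)) ∪ (Finset.univ.image (g i)) ∪ (Finset.univ.biUnion (H i))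
  have hGF : ∀ i k, F i k ⊆ G i := fun i k a ha => by
    simp only [G, Finset.mem_union, Finset.mem_biUnion, Finset.mem_univ, true_and]
    exact Or.inl (Or.inl ⟨k, ha⟩)
  have hGg : ∀ i k, g i k ∈ G i := fun i k => by
    simp only [G, Finset.mem_union, Finset.mem_image, Finset.mem_univ, true_and]
    exact Or.inl (Or.inr ⟨k, rfl⟩)
  have hGH : ∀ i i', H i i' ⊆ G i := fun i i' a ha => by
    simp only [G, Finset.mem_union, Finset.mem_biUnion, Finset.mem_univ, true_and]
    exact Or.inr ⟨i', ha⟩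
  let P : ∀ i, Finset (Finset (A i)) := fun i => (G i).powerset.filter fun E =>
    (∃ k, (∀ a ∈ F i k, a ∉ E) ∧ g i k ∈ E) ∧ ∀ i', i' < i → ∀ a ∈ H i i', a ∉ E
  have hP : ∀ i E, E ∈ P i ↔ E ⊆ G i ∧ (∃ k, (∀ a ∈ F i k, a ∉ E) ∧ g i k ∈ E) ∧
      ∀ i', i' < i → ∀ a ∈ H i i', a ∉ E := by
    intro i E
    simp only [P, Finset.mem_filter, Finset.mem_powerset]
  let I := Σ i : Fin n, {E // E ∈ P i}
  let eI := Fintype.equivFin I
  let e' : ∀ x : I, Spec (CommRingCat.of (Atom (G x.1) x.2.1)) ⟶ Y := fun x =>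
    Spec.map (CommRingCat.ofHom (atomHom (G x.1) x.2.1)) ≫ j x.1
  have hr : ∀ x : I, ∀ y, y ∈ Set.range (e' x) ↔ ∃ q : PrimeSpectrum (A x.1), j x.1 q = y ∧
      (∀ a ∈ G x.1, a ∉ x.2.1 → a ∈ q.asIdeal) ∧ ∀ a ∈ x.2.1, a ∉ q.asIdeal := by
    intro x y
    have h1 : Set.range (e' x) = j x.1 '' (Set.range
        (Spec.map (CommRingCat.ofHom (atomHom (G x.1) x.2.1)))) := by
      rw [← Set.range_comp]
      rfl
    rw [h1, range_atom]
    constructor
    · rintro ⟨q, hq, rfl⟩
      exact ⟨q, rfl, hq⟩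
    · rintro ⟨q, rfl, hq⟩
      exact ⟨q, hq, rfl⟩
  refine ⟨Fintype.card I, fun i => Spec (CommRingCat.of (Atom (G (eI.symm i).1) (eI.symm i).2.1)),
    fun i => e' (eI.symm i), fun i => ⟨inferInstance, inferInstance, inferInstance⟩, ?_, ?_, ?_⟩
  · intro i i' hii
    have hne : eI.symm i ≠ eI.symm i' := fun h => hii (eI.symm.injective h)
    change Disjoint (Set.range (e' (eI.symm i))) (Set.range (e' (eI.symm i')))
    generalize eI.symm i = x at hne ⊢
    generalize eI.symm i' = x' at hne ⊢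
    have key : ∀ x x' : I, x.1 < x'.1 → Disjoint (Set.range (e' x)) (Set.range (e' x')) := by
      intro x x' hlt
      rw [Set.disjoint_left]
      intro y hy hy'
      obtain ⟨q, hq, -, -⟩ := (hr x y).1 hy
      obtain ⟨q', hq', h1, h2⟩ := (hr x' y).1 hy'
      obtain ⟨a, ha, ha'⟩ := (hH x'.1 x.1 q').1 ⟨q, hq.trans hq'.symm⟩
      exact ha' (h1 a (hGH _ _ ha) (((hP _ _).1 x'.2.2).2.2 x.1 hlt a ha))
    rcases lt_trichotomy x.1 x'.1 with hlt | heq | hlt
    · exact key x x' hlt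
    · obtain ⟨i, E, hE⟩ := x
      obtain ⟨i', E', hE'⟩ := x'
      obtain rfl : i = i' := heq
      rw [Set.disjoint_left]
      intro y hy hy'
      obtain ⟨q, hq, h1, h2⟩ := (hr _ y).1 hy
      obtain ⟨q', hq', h1', h2'⟩ := (hr _ y).1 hy'
      obtain rfl : q = q' := (j i).isOpenEmbedding.injective (hq.trans hq'.symm)
      apply hne
      have hEE : E = E' := by
        ext a
        constructor
        · intro ha
          by_contra hc
          exact h2 a ha (h1' a (((hP _ _).1 hE).1 ha) hc)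
        · intro ha
          by_contra hc
          exact h2' a ha (h1 a (((hP _ _).1 hE').1 ha) hc)
      subst hEE
      rfl
    · exact (key x' x hlt).symm
  · refine Set.eq_univ_iff_forall.2 fun y => ?_
    obtain ⟨i, ⟨q, hq⟩, hmin⟩ := (wellFounded_lt (α := Fin n)).has_min
      {i | y ∈ Set.range (j i)} (hcov y)
    let E : Finset (A i) := (G i).filter fun a => a ∉ q.asIdeal
    have hE : ∀ a, a ∈ E ↔ a ∈ G i ∧ a ∉ q.asIdeal := fun a => Finset.mem_filter
    have hEP : E ∈ P i := by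
      rw [hP]
      refine ⟨Finset.filter_subset _ _, ?_, ?_⟩
      · obtain ⟨k, hk, hk'⟩ := hFg i q
        exact ⟨k, fun a ha ha' => ((hE a).1 ha').2 (hk a ha), (hE _).2 ⟨hGg i k, hk'⟩⟩
      · intro i' hi' a ha ha'
        refine hmin i' ?_ hi'
        have := (hH i i' q).2 ⟨a, ha, ((hE a).1 ha').2⟩
        rwa [hq] at this
    refine Set.mem_iUnion.2 ⟨eI ⟨i, E, hEP⟩, ?_⟩
    change y ∈ Set.range (e' (eI.symm (eI ⟨i, E, hEP⟩)))
    rw [Equiv.symm_apply_apply, hr]
    refine ⟨q, hq, fun a ha ha' => ?_, fun a ha => ((hE a).1 ha).2⟩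
    by_contra hc
    exact ha' ((hE a).2 ⟨ha, hc⟩)
  · intro i
    change Φ (e' (eI.symm i))
    generalize eI.symm i = x
    obtain ⟨-, ⟨k, hk, hk'⟩, -⟩ := (hP _ _).1 x.2.2
    exact HFg x.1 k _ (atomHom (G x.1) x.2.1) (fun a ha => atomHom_eq_zero _ _ (hGF _ _ ha) (hk a ha))
      (isUnit_atomHom _ _ hk')

end K349.FPPartition
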