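import Groth.Agent.EtPBC.K349.OpenChain
import Groth.Agent.Etrest.ExtZeroComp
import Groth.Agent.Etcore.OpenClosed
import Groth.Agent.S0648
import Groth.Agent.EtpbcA.Strata
import Groth.Agent.EtpbcA.StrataGlob
import Groth.Agent.EtpbcA.ConsFLC

/-!
# One step of the filtration of a sheaf by extensions by zero from opens
-/

set_option autoImplicit false
universe u

open CategoryTheory CategoryTheory.Limits AlgebraicGeometry Opposite Topology

namespace K349.Filtration

open Groth.Agent Groth.Agent.EtpbcA Groth.Agent.Etcore.ShriekBasic Groth.Agent.Etrest.ExtZeroComp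

variable {X : Scheme.{u}}

/-- `j_! j^{-1} F`. -/
noncomputable abbrev jj {U : Scheme.{u}} (j : U ⟶ X) [IsOpenImmersion j] (F : EtCoh.Ab X) :
    EtCoh.Ab X :=
  (EtShriek.extZero j).obj ((EtShriek.restrAlong j).obj F)

/-- `j_! j^{-1} F` for equal morphisms. -/
noncomputable def jjCongr {U : Scheme.{u}} {j j' : U ⟶ X} [IsOpenImmersion j] [IsOpenImmersion j']
    (h : j = j') (F : EtCoh.Ab X) : jj j F ≅ jj j' F :=
  eqToIso (by subst h; rfl)

theorem isZero_jj {U : Scheme.{u}} [IsEmpty U] (j : U ⟶ X) [IsOpenImmersion j] (F : EtCoh.Ab X) :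
    IsZero (jj j F) := by
  have h : IsZero ((EtShriek.restrAlong j).obj F) := by
    refine (IsZero.iff_id_eq_zero _).2 ?_
    ext V s
    have h0 : IsEmpty V.unop.left := ⟨fun v => IsEmpty.false (α := U) (V.unop.hom v)⟩
    have := Groth.Agent.Etcore.OpenClosed.subsingleton_sect_of_isEmpty
      ((EtShriek.restrAlong j).obj F) V.unop
    exact this.elim _ _
  exact (EtShriek.extZero j).map_isZero h

/-- For an isomorphism `j`, `j_! j^{-1} F = F`. -/
theorem nonempty_jj_iso {U : Scheme.{u}} (j : U ⟶ X) [IsIso j] (F : EtCoh.Ab X) :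
    Nonempty (jj j F ≅ F) := by
  have : IsIso ((EtShriek.extZeroAdj j).counit.app F) := by
    rw [Groth.Agent.Etcore.Stalks.isIso_iff_stalks]
    intro Ω _ _ ξ
    refine Groth.Agent.Etcore.ShriekUnique.isIso_stalk_counit j ξ ?_ F
    exact ⟨inv j (ξ default), by rw [← Scheme.Hom.comp_apply, IsIso.inv_hom_id]; rfl⟩
  exact ⟨asIso ((EtShriek.extZeroAdj j).counit.app F)⟩

/-- One step of the filtration. -/
theorem exists_step (F : EtCoh.Ab X) (O O' : X.Opens) (h : O ≤ O') {T : Scheme.{u}} (g : T ⟶ X)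
    [IsImmersion g] (hg : Set.range g = (O' : Set X) \ O)
    (hF : EtCoh.IsFiniteLocallyConstant ((EtCoh.pull g).obj F)) :
    ∃ (ι : jj O.ι F ⟶ jj O'.ι F) (c : T ⟶ (O' : Scheme.{u})) (_ : IsClosedImmersion c)
      (G : EtCoh.Ab T)
      (π : jj O'.ι F ⟶ (EtShriek.extZero O'.ι).obj ((EtCoh.push c).obj G)) (hz : ι ≫ π = 0),
      c ≫ O'.ι = g ∧ EtCoh.IsFiniteLocallyConstant G ∧ (ShortComplex.mk ι π hz).ShortExact := by
  let j' := O'.ι
  let i := X.homOfLE h
  have hij : i ≫ j' = O.ι := X.homOfLE_ι h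
  let c : T ⟶ (O' : Scheme.{u}) := IsOpenImmersion.lift O'.ι g (by
    rw [hg, Scheme.Opens.range_ι]
    exact Set.sdiff_subset)
  have hc : c ≫ O'.ι = g := IsOpenImmersion.lift_fac _ _ _
  have hci : IsPreimmersion c := by
    have : IsPreimmersion (c ≫ O'.ι) := by rw [hc]; infer_instance
    exact IsPreimmersion.of_comp c O'.ι
  have hrange : Set.range c = (Set.range i)ᶜ := by
    have h1 : (⇑O'.ι) '' Set.range c = (O' : Set X) \ O := by
      rw [← hg, ← hc, Scheme.Hom.comp_base, TopCat.coe_comp, Set.range_comp]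
    have h2 : (⇑O'.ι) '' Set.range i = (O : Set X) := by
      have : Set.range (i ≫ j') = (O : Set X) := by rw [hij, Scheme.Opens.range_ι]
      rw [← this, Scheme.Hom.comp_base, TopCat.coe_comp, Set.range_comp]
    ext x
    have hinj : Function.Injective (⇑O'.ι) := O'.ι.isOpenEmbedding.injective
    rw [← hinj.mem_set_image, h1, Set.mem_compl_iff, ← hinj.mem_set_image (s := Set.range i), h2]
    exact ⟨fun h => h.2, fun h => ⟨x.2, h⟩⟩
  have hcl : IsClosedImmersion c := by
    rw [IsClosedImmersion.iff_isPreimmersion]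
    refine ⟨hci, ?_⟩
    rw [hrange]
    exact i.isOpenEmbedding.isOpen_range.isClosed_compl
  let G' : EtCoh.Ab (O' : Scheme.{u}) := (EtShriek.restrAlong O'.ι).obj F
  have hd : IsCompl (Set.range c) (Set.range i) := by
    rw [hrange]
    exact isCompl_compl.symm
  have hses := Groth.Agent.Etcore.OpenClosed.shortExact c i hd G'
  have h1 : PreservesFiniteLimits (EtShriek.extZero O'.ι) := Groth.Agent.S0648.result O'.ι
  have h2 : PreservesColimitsOfSize.{0, 0} (EtShriek.extZero O'.ι) :=
    (EtShriek.extZeroAdj O'.ι).leftAdjoint_preservesColimits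
  have h3 : PreservesFiniteColimits (EtShriek.extZero O'.ι) :=
    PreservesColimitsOfSize.preservesFiniteColimits _
  have hses' := hses.map_of_exact (EtShriek.extZero O'.ι)
  let e : jj O.ι F ≅ (EtShriek.extZero O'.ι).obj
      ((EtShriek.extZero i).obj ((EtShriek.restrAlong i).obj G')) :=
    (jjCongr hij F).symm ≪≫ (EtShriek.extZero (i ≫ j')).mapIso ((restrComp i j').app F) ≪≫
      (extZeroComp i j').symm.app _
  refine ⟨e.hom ≫ (EtShriek.extZero O'.ι).map ((EtShriek.extZeroAdj i).counit.app G'), c, hcl,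
    (EtCoh.pull c).obj G', (EtShriek.extZero O'.ι).map ((EtCoh.pullPushAdj c).unit.app G'),
    ?_, hc, ?_, ?_⟩
  · rw [Category.assoc, ← Functor.map_comp, Groth.Agent.Etcore.OpenClosed.counit_unit c i hd.disjoint,
      Functor.map_zero, comp_zero]
  · refine PullFLC.isFLC_of_iso ?_ hF
    exact (PullFLC.pullCongr hc.symm).app F ≪≫ ((PullFLC.pullComp c O'.ι).symm.app F) ≪≫
      (EtCoh.pull c).mapIso ((pullIsoRestr O'.ι).app F)
  · refine ShortComplex.shortExact_of_iso ?_ hses'
    exact ShortComplex.isoMk e.symm (Iso.refl _) (Iso.refl _)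
      ((e.inv_hom_id_assoc _).trans (Category.comp_id _).symm)
      ((Category.id_comp _).trans (Category.comp_id _).symm)

end K349.Filtration
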