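import Groth.Agent.Etbase.GabSec

/-!
# Étale pull back of the connecting map applied to a section which lifts
-/

set_option autoImplicit false
universe u

open CategoryTheory CategoryTheory.Limits AlgebraicGeometry Opposite CategoryTheory.Abelian

namespace K349.HpullLift

open Groth.Agent.Etcore.SecPull Groth.Agent.Etcore.PullCoh Groth.Agent.Sga4B
  Groth.Agent.Etbase.GabSec

theorem sq_congr {T S : Scheme.{u}} (g : T ⟶ S) (G : EtCoh.Ab S) {V : S.Etale} {W : T.Etale}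
    (q q' : W.left ⟶ V.left) (hq : q ≫ V.hom = W.hom ≫ g) (hq' : q' ≫ V.hom = W.hom ≫ g)
    (h : q = q') : sq g G q hq = sq g G q' hq' := by
  subst h
  rfl

/-- If the section attached to `x` lifts to `K.X₂` over the étale `X`-scheme `Y`, then the inverse image on
`Y` of the class `δ x` is zero. -/
theorem Hpull_extClass_eq_zero {X Y : Scheme.{u}} (t : Y ⟶ X) [Etale t]
    [PreservesFiniteLimits (EtCoh.pull t)] {K : ShortComplex (EtCoh.Ab X)} (hK : K.ShortExact)
    (x : EtCoh.const X ℤ ⟶ K.X₃) (i : EtCoh.sect K.X₂ (Scheme.Etale.mk t))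
    (hi : K.g.hom.app (op (Scheme.Etale.mk t)) i =
      K.X₃.obj.map (toTop (Scheme.Etale.mk t)).op (ev x)) :
    EtCore.Hpull t K.X₁ 1 ((Ext.mk₀ x).comp hK.extClass (zero_add 1)) = 0 := by
  have h1 : EtCore.Hpull t K.X₁ 1 ((Ext.mk₀ x).comp hK.extClass (zero_add 1)) =
    ExtCmp.cmp (EtCoh.pull t) (EtCore.pullConst t ℤ).inv K.X₁ 1
      ((Ext.mk₀ x).comp hK.extClass (zero_add 1)) := rfl
  have h2 : ExtCmp.cmp (EtCoh.pull t) (EtCore.pullConst t ℤ).inv K.X₃ 0 (Ext.mk₀ x) =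
      Ext.mk₀ ((EtCore.pullConst t ℤ).inv ≫ (EtCoh.pull t).map x) := by
    rw [ExtCmp.cmp_apply, Ext.mapExactFunctor_mk₀, Ext.mk₀_comp_mk₀]
  rw [h1, ExtCmp.cmp_extClass _ _ hK (zero_add 1), h2]
  refine ext_eq_zero t hK _ i ?_
  have hq : (t : (EtCoh.top Y).left ⟶ (EtCoh.top X).left) ≫ (EtCoh.top X).hom =
      (EtCoh.top Y).hom ≫ t := (Category.comp_id _).trans (Category.id_comp _).symm
  rw [ev_pull t x hq, hi]
  have hl : (toTop (Scheme.Etale.mk t)).left = t := by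
    have := Over.w (toTop (Scheme.Etale.mk t)).hom
    exact (Category.comp_id _).symm.trans this
  have hr : ((𝟙 Y : (EtCoh.top Y).left ⟶ (Scheme.Etale.mk t).left) ≫
      (toTop (Scheme.Etale.mk t)).left) ≫ (EtCoh.top X).hom = (EtCoh.top Y).hom ≫ t := by
    rw [hl]
    exact Category.comp_id _
  have h4 := sq_postcomp t K.X₃ (V := Scheme.Etale.mk t) (W := EtCoh.top Y) (𝟙 Y) rfl
    (toTop (Scheme.Etale.mk t)) hr
  have h5 : loc t K.X₃ (K.X₃.obj.map (toTop (Scheme.Etale.mk t)).op (ev x)) =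
      sq t K.X₃ (V := EtCoh.top X) (W := EtCoh.top Y)
      (𝟙 Y ≫ (toTop (Scheme.Etale.mk t)).left) hr (ev x) :=
    congrArg (fun k => k (ev x)) (congrArg (fun k => k.hom) h4)
  rw [h5]
  have h6 : (t : (EtCoh.top Y).left ⟶ (EtCoh.top X).left) =
      (𝟙 Y : (EtCoh.top Y).left ⟶ (Scheme.Etale.mk t).left) ≫
        (toTop (Scheme.Etale.mk t)).left :=
    (Category.id_comp t).symm.trans
      (congrArg (fun k : (Scheme.Etale.mk t).left ⟶ (EtCoh.top X).left => 𝟙 Y ≫ k) hl.symm)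
  exact congrArg (fun k => k (ev x)) (congrArg (fun k => k.hom) (sq_congr (V := EtCoh.top X)
    (W := EtCoh.top Y) t K.X₃ _ _ hq hr h6))

/-- A class of degree one comes from a section of the quotient of an injective sheaf. -/
theorem exists_eq_extClass {X : Scheme.{u}} {K : ShortComplex (EtCoh.Ab X)} (hK : K.ShortExact)
    [Injective K.X₂] (c : EtCoh.H X K.X₁ 1) :
    ∃ x : EtCoh.const X ℤ ⟶ K.X₃, c = (Ext.mk₀ x).comp hK.extClass (zero_add 1) := by
  obtain ⟨y, hy⟩ := Ext.covariant_sequence_exact₁ _ hK c (Ext.eq_zero_of_injective _) (zero_add 1)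
  obtain ⟨x, rfl⟩ := (Ext.mk₀_bijective _ _).2 y
  exact ⟨x, hy.symm⟩

end K349.HpullLift
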