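import Groth.Agent.EtPBC.K349.Tower
import Mathlib.RingTheory.Jacobson.Ring
import Mathlib.RingTheory.LocalRing.ResidueField.Ideal
import Mathlib.Algebra.Category.Ring.Constructions

/-!
# Finite etale + radicial quasi-sections, locally at a point
-/

set_option autoImplicit false
universe u

open CategoryTheory CategoryTheory.Limits AlgebraicGeometry TensorProduct

namespace K349.LocData

open K349.Tower

/-- Over `T → Y`, the morphism `f : X → Y` has a quasi-section after a finite etale cover and a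
finite flat radicial cover. -/
def Data {X Y T : Scheme.{u}} (f : X ⟶ Y) (e : T ⟶ Y) : Prop :=
  ∃ (T' T'' : Scheme.{u}) (hh : T' ⟶ T) (gg : T'' ⟶ T') (s : T'' ⟶ X),
    GoodE hh ∧ GoodR gg ∧ s ≫ f = gg ≫ hh ≫ e

theorem Data.precomp {X Y T S : Scheme.{u}} {f : X ⟶ Y} {e : T ⟶ Y} (h : Data f e) (k : S ⟶ T) :
    Data f (k ≫ e) := by
  obtain ⟨T', T'', hh, gg, s, hE, hR, w⟩ := h
  refine ⟨pullback hh k, pullback gg (pullback.fst hh k), pullback.snd hh k,
    pullback.snd gg (pullback.fst hh k), pullback.fst gg (pullback.fst hh k) ≫ s,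
    hE.of_isPullback (IsPullback.of_hasPullback hh k),
    hR.of_isPullback (IsPullback.of_hasPullback gg (pullback.fst hh k)), ?_⟩
  rw [Category.assoc, w, ← Category.assoc, pullback.condition, Category.assoc,
    ← Category.assoc (pullback.fst hh k), pullback.condition, Category.assoc]

/-- Localization squares are cartesian. -/
theorem isPullback_away {A B : Type u} [CommRing A] [CommRing B] (φ : A →+* B) (g : A) :
    IsPullback (Spec.map (CommRingCat.ofHom (algebraMap B (Localization.Away (φ g)))))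
      (Spec.map (CommRingCat.ofHom (Localization.awayMap φ g)))
      (Spec.map (CommRingCat.ofHom φ))
      (Spec.map (CommRingCat.ofHom (algebraMap A (Localization.Away g)))) := by
  have h1 : IsLocalization ((Submonoid.powers g).map φ) (Localization.Away (φ g)) := by
    rw [Submonoid.map_powers]
    infer_instance
  have h := CommRingCat.isPushout_of_isLocalization (Rₘ := Localization.Away g)
    (Sₘ := Localization.Away (φ g)) φ (Localization.awayMap φ g) (by
      ext a
      simp [Localization.awayMap, IsLocalization.Away.map]) (Submonoid.powers g)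
  exact (h.op.map Scheme.Spec).flip

/-- A field-valued point of the fibre, finite over the residue field. -/
theorem exists_field {A R : Type u} [CommRing A] [CommRing R] [Algebra A R]
    [Algebra.FiniteType A R] (p : Ideal A) [p.IsPrime] (Q : Ideal R) [Q.IsPrime] [Q.LiesOver p] :
    ∃ (L : Type u) (_ : Field L) (_ : Algebra p.ResidueField L)
      (_ : FiniteDimensional p.ResidueField L) (f : R →+* L),
      ∀ a : A, f (algebraMap A R a) = algebraMap p.ResidueField L (algebraMap A p.ResidueField a) := by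
  let K := p.ResidueField
  let F := K ⊗[A] R
  let κ : K →+* Q.ResidueField := Ideal.ResidueField.map p Q (algebraMap A R) (Q.over_def p)
  let : Algebra K Q.ResidueField := κ.toAlgebra
  have htow : IsScalarTower A K Q.ResidueField := IsScalarTower.of_algebraMap_eq fun a => by
    change _ = κ (algebraMap A K a)
    rw [Ideal.ResidueField.map_algebraMap, ← IsScalarTower.algebraMap_apply]
  let q : F →ₐ[K] Q.ResidueField :=
    Algebra.TensorProduct.lift (Algebra.ofId K Q.ResidueField)
      (IsScalarTower.toAlgHom A R Q.ResidueField) (fun _ _ => Commute.all _ _)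
  have : Nontrivial F := q.toRingHom.domain_nontrivial
  obtain ⟨m, hm⟩ := Ideal.exists_maximal F
  let : Field (F ⧸ m) := Ideal.Quotient.field m
  have : Algebra.FiniteType K (F ⧸ m) :=
    Algebra.FiniteType.of_surjective (Ideal.Quotient.mkₐ K m) (Ideal.Quotient.mkₐ_surjective K m)
  have hfin : Module.Finite K (F ⧸ m) := finite_of_finite_type_of_isJacobsonRing K (F ⧸ m)
  refine ⟨F ⧸ m, inferInstance, inferInstance, hfin,
    (Ideal.Quotient.mk m).comp (Algebra.TensorProduct.includeRight (R := A) (A := K) (B := R) :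
      R →ₐ[A] F).toRingHom, ?_⟩
  intro a
  change Ideal.Quotient.mk m ((1 : K) ⊗ₜ[A] algebraMap A R a) = _
  have h1 : ((1 : K) ⊗ₜ[A] algebraMap A R a : F) = algebraMap K F (algebraMap A K a) := by
    rw [Algebra.TensorProduct.algebraMap_apply, Algebra.algebraMap_eq_smul_one,
      ← TensorProduct.smul_tmul, Algebra.algebraMap_eq_smul_one, algebraMap_smul]
  rw [h1]
  rfl

/-- Denominators in a finite extension of domains can be taken in the base. -/
theorem exists_denom {D L C'' : Type u} [CommRing D] [Field L] [CommRing C'']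
    (c : D →+* C'') (ψ : C'' →+* L) (hψ : IsFrac ψ)
    (hint : ∀ s : C'', s ≠ 0 → ∃ d : D, d ≠ 0 ∧ s ∣ c d) [IsDomain D] (T : Finset L) :
    ∃ g : D, g ≠ 0 ∧ ∀ t ∈ T, ∃ y : C'', ψ (c g) * t = ψ y := by
  obtain ⟨s, hs, H⟩ := hψ.exists_denom T
  obtain ⟨g, hg, r, hr⟩ := hint s (fun h => hs (by rw [h, map_zero]))
  refine ⟨g, hg, fun t ht => ?_⟩
  obtain ⟨a, ha⟩ := H t ht
  exact ⟨r * a, by rw [hr, map_mul, map_mul, ← ha]; ring⟩

theorem exists_dvd {D D₁ C'' : Type u} [CommRing D] [CommRing D₁] [CommRing C''] [Algebra D D₁]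
    (g : D) [IsLocalization.Away g D₁] [IsDomain D₁] [IsDomain C''] (b : D₁ →+* C'')
    (hb : b.IsIntegral) (s : C'') (hs : s ≠ 0) :
    ∃ d : D, d ≠ 0 ∧ s ∣ b (algebraMap D D₁ d) := by
  algebraize [b]
  have hint : IsIntegral D₁ s := Algebra.IsIntegral.isIntegral s
  have h1 := Ideal.comap_ne_bot_of_integral_mem (R := D₁) (I := Ideal.span {s}) hs
    (Ideal.mem_span_singleton_self s) hint
  obtain ⟨d₁, hd₁, hne⟩ := Submodule.exists_mem_ne_zero_of_ne_bot h1
  have hd₁' : s ∣ b d₁ := Ideal.mem_span_singleton.1 (Ideal.mem_comap.1 hd₁)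
  obtain ⟨⟨d, m, hm⟩, hd⟩ := IsLocalization.surj (Submonoid.powers g) d₁
  have hd' : d₁ * algebraMap D D₁ m = algebraMap D D₁ d := hd
  have h3 : IsUnit (algebraMap D D₁ m) :=
    IsLocalization.map_units D₁ (⟨m, hm⟩ : Submonoid.powers g)
  refine ⟨d, ?_, ?_⟩
  · rintro rfl
    rw [map_zero] at hd'
    exact hne (h3.mul_left_eq_zero.1 hd')
  · rw [← hd', map_mul]
    exact hd₁'.mul_right _

/-- The local form of the theorem. -/
theorem exists_local {A R : Type u} [CommRing A] [CommRing R] [Algebra A R]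
    [Algebra.FiniteType A R] (p : Ideal A) [p.IsPrime] (Q : Ideal R) [Q.IsPrime] [Q.LiesOver p] :
    ∃ g : A, g ∉ p ∧ ∀ (B : Type u) [CommRing B] [Algebra A B],
      (∀ a ∈ p, algebraMap A B a = 0) → IsUnit (algebraMap A B g) →
      Data (Spec.map (CommRingCat.ofHom (algebraMap A R)))
        (Spec.map (CommRingCat.ofHom (algebraMap A B))) := by
  obtain ⟨L, _, _, _, f, hf⟩ := exists_field p Q
  let K := p.ResidueField
  let D := A ⧸ p
  let ι : D →+* K := algebraMap D K
  have hι : IsFrac ι := by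
    refine ⟨IsFractionRing.injective D K, fun x => ?_⟩
    obtain ⟨a, s, hs, rfl⟩ := IsFractionRing.div_surjective (A := D) x
    have hs0 : algebraMap D K s ≠ 0 := IsFractionRing.to_map_ne_zero_of_mem_nonZeroDivisors hs
    exact ⟨a, s, hs0, mul_div_cancel₀ _ hs0⟩
  obtain ⟨g₁, hg₁, H⟩ := exists_tower (L := L) ι hι
  obtain ⟨C', C'', _, _, a, b, ψ, hψ, hψc, hE, hR⟩ := H (Localization.Away g₁)
  have hdomC : IsDomain C'' := hψ.isDomain
  have hinjc : Function.Injective (b.comp (a.comp (algebraMap D (Localization.Away g₁)))) := by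
    rw [injective_iff_map_eq_zero]
    intro d hd
    have h1 := hψc d
    rw [show b (a (algebraMap D (Localization.Away g₁) d)) = 0 from hd, map_zero] at h1
    exact hι.1 (by rw [map_zero]; exact (_root_.map_eq_zero _).1 h1.symm)
  have hdom₁ : IsDomain (Localization.Away g₁) :=
    IsLocalization.isDomain_localization (powers_le_nonZeroDivisors_of_noZeroDivisors (by
      rintro rfl
      exact hg₁ (map_zero _)))
  have hafin : a.Finite := by
    have := hE.1
    rwa [IsFinite.SpecMap_iff] at this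
  have hbfin : b.Finite := by
    have := hR.1
    rwa [IsFinite.SpecMap_iff] at this
  have hint : (b.comp a).IsIntegral := (hbfin.comp hafin).to_isIntegral
  obtain ⟨T, hT⟩ := (Algebra.FiniteType.out : (⊤ : Subalgebra A R).FG)
  classical
  obtain ⟨g₂, hg₂, HT⟩ := exists_denom (b.comp (a.comp (algebraMap D (Localization.Away g₁)))) ψ hψ
    (fun s hs => exists_dvd g₁ (b.comp a) hint s hs) (T.image f)
  obtain ⟨γ₁, rfl⟩ := Ideal.Quotient.mk_surjective g₁
  obtain ⟨γ₂, rfl⟩ := Ideal.Quotient.mk_surjective g₂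
  let D₁ := Localization.Away (Ideal.Quotient.mk p γ₁)
  let g₂' : D₁ := algebraMap D D₁ (Ideal.Quotient.mk p γ₂)
  let D₂ := Localization.Away g₂'
  let C₂'' := Localization.Away (b (a g₂'))
  let α₂ : A →+* D₂ := (algebraMap D₁ D₂).comp ((algebraMap D D₁).comp (Ideal.Quotient.mk p))
  -- the embedding into `L`
  have hunit : IsUnit (ψ (b (a g₂'))) := by
    refine IsUnit.mk0 _ ?_
    intro h0
    have h1 : b (a g₂') = 0 := hψ.1 (by rw [h0, map_zero])
    exact hg₂ (hinjc (by rw [map_zero]; exact h1))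
  let ψ₂ : C₂'' →+* L := IsLocalization.Away.lift (b (a g₂')) hunit
  have hψ₂ : ∀ x : C'', ψ₂ (algebraMap C'' C₂'' x) = ψ x := fun x =>
    IsLocalization.Away.lift_eq _ hunit x
  have hψ₂inj : Function.Injective ψ₂ := by
    rw [injective_iff_map_eq_zero]
    intro x hx
    obtain ⟨⟨d, m, hm⟩, hd⟩ := IsLocalization.surj (Submonoid.powers (b (a g₂'))) x
    have hd' : x * algebraMap C'' C₂'' m = algebraMap C'' C₂'' d := hd
    have h1 : ψ d = 0 := by
      rw [← hψ₂, ← hd', map_mul, hx, zero_mul]
    have h2 : d = 0 := hψ.1 (by rw [h1, map_zero])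
    have h3 : IsUnit (algebraMap C'' C₂'' m) :=
      IsLocalization.map_units C₂'' (⟨m, hm⟩ : Submonoid.powers (b (a g₂')))
    rw [h2, map_zero] at hd'
    exact h3.mul_left_eq_zero.1 hd'
  have hA : ∀ x : A, ψ₂ (algebraMap C'' C₂'' (b (a (algebraMap D D₁ (Ideal.Quotient.mk p x))))) =
      f (algebraMap A R x) := by
    intro x
    rw [hψ₂, hψc, hf]
    rfl
  have hrange : ∀ r : R, f r ∈ ψ₂.range := by
    intro r
    have hr : r ∈ Algebra.adjoin A (T : Set R) := hT ▸ Algebra.mem_top
    induction hr using Algebra.adjoin_induction with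
    | mem t ht =>
      obtain ⟨y, hy⟩ := HT (f t) (Finset.mem_image_of_mem f ht)
      obtain ⟨w, hw⟩ : IsUnit (algebraMap C'' C₂'' (b (a g₂'))) :=
        IsLocalization.Away.algebraMap_isUnit _
      refine ⟨↑w⁻¹ * algebraMap C'' C₂'' y, ?_⟩
      rw [map_mul, hψ₂, ← hy]
      have h5 : ψ ((b.comp (a.comp (algebraMap D D₁))) (Ideal.Quotient.mk p γ₂)) = ψ₂ w := by
        rw [hw, hψ₂]
        rfl
      rw [h5, ← mul_assoc, ← map_mul, Units.inv_mul, map_one, one_mul]
    | algebraMap x => exact ⟨_, hA x⟩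
    | add x y _ _ hx hy => rw [map_add]; exact Subring.add_mem _ hx hy
    | mul x y _ _ hx hy => rw [map_mul]; exact Subring.mul_mem _ hx hy
  let e : C₂'' ≃+* ψ₂.range := RingEquiv.ofBijective ψ₂.rangeRestrict
    ⟨fun x y hxy => hψ₂inj (congrArg Subtype.val hxy), ψ₂.rangeRestrict_surjective⟩
  let f₂ : R →+* C₂'' := e.symm.toRingHom.comp (f.codRestrict ψ₂.range hrange)
  have hf₂ : ∀ r, ψ₂ (f₂ r) = f r := by
    intro r
    have h1 : e (e.symm (f.codRestrict ψ₂.range hrange r)) = f.codRestrict ψ₂.range hrange r :=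
      e.apply_symm_apply _
    exact congrArg Subtype.val h1
  have hcomm : f₂.comp (algebraMap A R) =
      ((Localization.awayMap b (a g₂')).comp (Localization.awayMap a g₂')).comp α₂ := by
    ext x
    apply hψ₂inj
    rw [RingHom.comp_apply, hf₂, ← hA]
    have hm1 : ∀ y : D₁, Localization.awayMap a g₂' (algebraMap D₁ D₂ y) =
        algebraMap C' (Localization.Away (a g₂')) (a y) := fun y => IsLocalization.map_eq _ y
    have hm2 : ∀ y : C', Localization.awayMap b (a g₂')
        (algebraMap C' (Localization.Away (a g₂')) y) = algebraMap C'' C₂'' (b y) :=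
      fun y => IsLocalization.map_eq _ y
    refine congrArg ψ₂ ?_
    change _ = Localization.awayMap b (a g₂') (Localization.awayMap a g₂'
      (algebraMap D₁ D₂ (algebraMap D D₁ (Ideal.Quotient.mk p x))))
    rw [hm1, hm2]
  have hdata : Data (Spec.map (CommRingCat.ofHom (algebraMap A R)))
      (Spec.map (CommRingCat.ofHom α₂)) := by
    refine ⟨_, _, Spec.map (CommRingCat.ofHom (Localization.awayMap a g₂')),
      Spec.map (CommRingCat.ofHom (Localization.awayMap b (a g₂'))),
      Spec.map (CommRingCat.ofHom f₂), hE.of_isPullback (isPullback_away a g₂'),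
      hR.of_isPullback (isPullback_away b (a g₂')), ?_⟩
    rw [← Spec.map_comp, ← Spec.map_comp, ← Spec.map_comp, ← CommRingCat.ofHom_comp,
      ← CommRingCat.ofHom_comp, ← CommRingCat.ofHom_comp, hcomm]
  refine ⟨γ₁ * γ₂, ?_, ?_⟩
  · intro hmem
    rcases (inferInstance : p.IsPrime).mem_or_mem hmem with h1 | h1
    · exact hg₁ (by rw [Ideal.Quotient.eq_zero_iff_mem.2 h1, map_zero])
    · exact hg₂ (Ideal.Quotient.eq_zero_iff_mem.2 h1)
  · intro B _ _ hpB hunitB
    rw [map_mul] at hunitB
    let β₀ : D →+* B := Ideal.Quotient.lift p (algebraMap A B) hpB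
    have h1 : IsUnit (β₀ (Ideal.Quotient.mk p γ₁)) := isUnit_of_mul_isUnit_left hunitB
    let β₁ : D₁ →+* B := IsLocalization.Away.lift _ h1
    have hβ₁ : ∀ d, β₁ (algebraMap D D₁ d) = β₀ d := fun d => IsLocalization.Away.lift_eq _ h1 d
    have h2 : IsUnit (β₁ g₂') := by
      rw [hβ₁]
      exact isUnit_of_mul_isUnit_right hunitB
    let β₂ : D₂ →+* B := IsLocalization.Away.lift _ h2
    have hβ₂ : ∀ d, β₂ (algebraMap D₁ D₂ d) = β₁ d := fun d => IsLocalization.Away.lift_eq _ h2 d
    have h3 : Spec.map (CommRingCat.ofHom (algebraMap A B)) =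
        Spec.map (CommRingCat.ofHom β₂) ≫ Spec.map (CommRingCat.ofHom α₂) := by
      rw [← Spec.map_comp, ← CommRingCat.ofHom_comp]
      congr 2
      ext x
      change _ = β₂ (algebraMap D₁ D₂ (algebraMap D D₁ (Ideal.Quotient.mk p x)))
      rw [hβ₂, hβ₁]
      rfl
    rw [h3]
    exact hdata.precomp _

end K349.LocData
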