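import Groth.Agent.CalgA.NagataFinite
import Groth.Prelude.Def_Pi1
import Mathlib.AlgebraicGeometry.ZariskisMainTheorem
import Mathlib.AlgebraicGeometry.Noetherian

/-!
# Charts of quasi-finite schemes over a Nagata ring
-/

set_option autoImplicit false
universe u

open CategoryTheory CategoryTheory.Limits AlgebraicGeometry Opposite TopologicalSpace

namespace K349.NagataChart

theorem exists_over {A B : Type u} [CommRing A] [CommRing B] (φ : A →+* B) (hφ : φ.IsIntegral)
    (hinj : Function.Injective φ) (P : Ideal A) [P.IsPrime] :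
    ∃ Q : Ideal B, Q.IsPrime ∧ Q.comap φ = P := by
  algebraize [φ]
  obtain ⟨Q₀, -, h1, h2⟩ := Ideal.exists_ideal_over_prime_of_isIntegral (R := A) (S := B) P ⊥
    (by
      have : RingHom.ker (algebraMap A B) = ⊥ := (RingHom.injective_iff_ker_eq_bot _).1 hinj
      change RingHom.ker (algebraMap A B) ≤ _
      rw [this]
      exact bot_le)
  exact ⟨Q₀, h1, h2⟩

/-- The ring-theoretic form. -/
theorem exists_ring {R B : Type u} [CommRing R] (hR : CAlg.IsNagata R) [CommRing B] [Algebra R B]
    [Algebra.FiniteType R B] (p : Ideal B) [p.IsPrime] [Algebra.WeaklyQuasiFiniteAt R p] :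
    ∃ (S : Type u) (_ : CommRing S) (_ : IsDomain S) (_ : IsIntegrallyClosed S) (_ : Algebra R S)
      (_ : Module.Finite R S) (r : S) (_ : r ≠ 0) (φ : B →+* Localization.Away r)
      (Q : Ideal (Localization.Away r)) (_ : Q.IsPrime),
      Q.comap φ = p ∧
      φ.comp (algebraMap R B) = (algebraMap S (Localization.Away r)).comp (algebraMap R S) := by
  obtain ⟨S', hS', r, hr, hbij⟩ :=
    Algebra.QuasiFiniteAt.exists_fg_and_exists_notMem_and_awayMap_bijective (R := R) p
  have hfin : Module.Finite R S' := ⟨(Submodule.fg_top _).mpr hS'⟩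
  let p' : Ideal S' := p.comap S'.val.toRingHom
  have hp' : p'.IsPrime := Ideal.comap_isPrime _ _
  have hrp' : r ∉ p' := hr
  obtain ⟨m, hm, hmp⟩ := Ideal.exists_minimalPrimes_le (I := (⊥ : Ideal S')) (J := p') bot_le
  have hmprime : m.IsPrime := hm.1.1
  obtain ⟨S, _, _, _, _, _, f, hf⟩ :=
    Groth.Agent.CalgA.NagataFinite.exists_normal_finite_extension hR (S' ⧸ m)
  let g : S' →+* S := f.toRingHom.comp (Ideal.Quotient.mk m)
  let v : S' →+* B := S'.val.toRingHom
  let e : Localization.Away r ≃+* Localization.Away (v r) := RingEquiv.ofBijective _ hbij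
  let φ : B →+* Localization.Away (g r) :=
    ((Localization.awayMap g r).comp e.symm.toRingHom).comp (algebraMap B (Localization.Away (v r)))
  have hφ : ∀ s : S', φ (v s) = algebraMap S (Localization.Away (g r)) (g s) := by
    intro s
    have h0 : Localization.awayMap v r (algebraMap S' (Localization.Away r) s) =
        algebraMap B (Localization.Away (v r)) (v s) := IsLocalization.map_eq _ s
    have h1 : e (algebraMap S' (Localization.Away r) s) =
        algebraMap B (Localization.Away (v r)) (v s) := h0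
    change Localization.awayMap g r (e.symm (algebraMap B (Localization.Away (v r)) (v s))) = _
    rw [← h1, e.symm_apply_apply]
    exact IsLocalization.map_eq _ s
  -- elements of `B` have denominators
  have hden : ∀ b : B, ∃ (N : ℕ) (s : S'), v r ^ N * b = v s := by
    intro b
    obtain ⟨x, hx⟩ := hbij.2 (algebraMap B (Localization.Away (v r)) b)
    obtain ⟨⟨s, t, ⟨n, rfl⟩⟩, ht⟩ := IsLocalization.surj (Submonoid.powers r) x
    have ht' : x * algebraMap S' (Localization.Away r) (r ^ n) =
      algebraMap S' (Localization.Away r) s := ht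
    have h1 := congrArg (Localization.awayMap v r) ht'
    have h2 : ∀ s : S', Localization.awayMap v r (algebraMap S' (Localization.Away r) s) =
        algebraMap B (Localization.Away (v r)) (v s) := fun s => IsLocalization.map_eq _ s
    rw [map_mul, hx, h2, h2, ← map_mul] at h1
    obtain ⟨⟨c, ⟨k, rfl⟩⟩, hc⟩ := (IsLocalization.eq_iff_exists (Submonoid.powers (v r))
      (Localization.Away (v r))).1 h1
    refine ⟨k + n, r ^ k * s, ?_⟩
    have hc' : v r ^ k * (b * v (r ^ n)) = v r ^ k * v s := hc
    rw [map_mul, map_pow, ← hc', map_pow, pow_add]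
    ring
  -- the prime of `S`
  have hinjf : Function.Injective f.toRingHom := hf
  have hpm : ∃ P : Ideal (S' ⧸ m), P.IsPrime ∧ P.comap (Ideal.Quotient.mk m) = p' := by
    refine ⟨p'.map (Ideal.Quotient.mk m), ?_, ?_⟩
    · exact Ideal.map_isPrime_of_surjective Ideal.Quotient.mk_surjective (by rwa [Ideal.mk_ker])
    · rw [Ideal.comap_map_of_surjective _ Ideal.Quotient.mk_surjective, ← RingHom.ker_eq_comap_bot,
        Ideal.mk_ker, sup_eq_left.2 hmp]
  obtain ⟨P, hP, hPp⟩ := hpm
  have hint : f.toRingHom.IsIntegral := by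
    have h1 : Module.Finite R S := inferInstance
    have h2 : Algebra.IsIntegral R S := inferInstance
    intro x
    have h3 := Algebra.IsIntegral.isIntegral (R := R) x
    obtain ⟨q, hq, hq'⟩ := h3
    refine ⟨q.map (algebraMap R (S' ⧸ m)), hq.map _, ?_⟩
    rw [Polynomial.eval₂_map]
    have h4 : f.toRingHom.comp (algebraMap R (S' ⧸ m)) = algebraMap R S := f.comp_algebraMap
    rw [h4]
    exact hq'
  obtain ⟨Q₀, hQ₀, hQ₀P⟩ := exists_over f.toRingHom hint hinjf P
  have hQg : Q₀.comap g = p' := by
    rw [← hPp, ← hQ₀P, Ideal.comap_comap]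
  have hgr : g r ∉ Q₀ := fun h => hrp' (by rw [← hQg]; exact h)
  have hgr0 : g r ≠ 0 := fun h => hgr (by rw [h]; exact Q₀.zero_mem)
  have hdisj : Disjoint (Submonoid.powers (g r) : Set S) Q₀ := by
    rw [Set.disjoint_left]
    rintro _ ⟨n, rfl⟩ hn
    exact hgr (hQ₀.mem_of_pow_mem n hn)
  refine ⟨S, inferInstance, inferInstance, inferInstance, inferInstance, inferInstance, g r, hgr0,
    φ, Q₀.map (algebraMap S (Localization.Away (g r))),
    IsLocalization.isPrime_of_isPrime_disjoint (Submonoid.powers (g r)) _ Q₀ hQ₀ hdisj, ?_, ?_⟩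
  · have hcm : (Q₀.map (algebraMap S (Localization.Away (g r)))).comap
        (algebraMap S (Localization.Away (g r))) = Q₀ :=
      IsLocalization.under_map_of_isPrime_disjoint (Submonoid.powers (g r)) _ hQ₀ hdisj
    have hQp : (Q₀.map (algebraMap S (Localization.Away (g r)))).IsPrime :=
      IsLocalization.isPrime_of_isPrime_disjoint (Submonoid.powers (g r)) _ Q₀ hQ₀ hdisj
    have hru : IsUnit (φ (v r)) := by
      rw [hφ]
      exact IsLocalization.Away.algebraMap_isUnit _
    ext b
    obtain ⟨N, s, hs⟩ := hden b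
    rw [Ideal.mem_comap]
    have h1 : φ b ∈ Q₀.map (algebraMap S (Localization.Away (g r))) ↔
        φ (v s) ∈ Q₀.map (algebraMap S (Localization.Away (g r))) := by
      rw [← hs, map_mul, map_pow]
      exact (Ideal.unit_mul_mem_iff_mem _ (hru.pow N)).symm
    rw [h1, hφ, ← Ideal.mem_comap, hcm, ← Ideal.mem_comap, hQg]
    change v s ∈ p ↔ _
    rw [← hs]
    constructor
    · intro h
      rcases (inferInstance : p.IsPrime).mem_or_mem h with h2 | h2
      · exact absurd ((inferInstance : p.IsPrime).mem_of_pow_mem N h2) hr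
      · exact h2
    · exact fun h => p.mul_mem_left _ h
  · ext x
    change φ (v (algebraMap R S' x)) = _
    rw [hφ, RingHom.comp_apply]
    exact congrArg _ (f.commutes x)

/-- Around every point, a scheme quasi-finite over a Nagata ring `R` is the image of a nonempty
basic open of the spectrum of a normal domain finite over `R`. -/
theorem exists_chart {R : Type u} [CommRing R] (hR : CAlg.IsNagata R) {Y : Scheme.{u}}
    (q : Y ⟶ Spec (CommRingCat.of R)) [LocallyQuasiFinite q] [LocallyOfFiniteType q] (y : Y) :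
    ∃ (S : Type u) (_ : CommRing S) (_ : IsDomain S) (_ : IsIntegrallyClosed S) (α : R →+* S)
      (_ : α.Finite) (r : S) (_ : r ≠ 0) (f : Spec (CommRingCat.of (Localization.Away r)) ⟶ Y),
      y ∈ Set.range f ∧
      f ≫ q = Spec.map (CommRingCat.ofHom (algebraMap S (Localization.Away r))) ≫
        Spec.map (CommRingCat.ofHom α) := by
  obtain ⟨_, ⟨V, hV, rfl⟩, hyV, -⟩ := Y.isBasis_affineOpens.exists_subset_of_mem_open
    (Set.mem_univ y) isOpen_univ
  have hV' : IsAffineOpen V := hV
  obtain ⟨φ, hφ⟩ := Spec.map_surjective (hV'.fromSpec ≫ q)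
  have hft : φ.hom.FiniteType := by
    rw [← HasRingHomProperty.Spec_iff (P := @LocallyOfFiniteType), hφ]
    infer_instance
  have hqf : φ.hom.QuasiFinite := by
    rw [← HasRingHomProperty.Spec_iff (P := @LocallyQuasiFinite), hφ]
    infer_instance
  algebraize [φ.hom]
  obtain ⟨p, hp⟩ : y ∈ Set.range hV'.fromSpec := by
    rw [hV'.range_fromSpec]
    exact hyV
  have hpp : (p : PrimeSpectrum Γ(Y, V)).asIdeal.IsPrime := (p : PrimeSpectrum Γ(Y, V)).isPrime
  obtain ⟨S, _, _, _, _, _, r, hr, ψ, Q, hQ, hQp, hcomm⟩ :=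
    exists_ring (R := R) (B := Γ(Y, V)) hR (p : PrimeSpectrum Γ(Y, V)).asIdeal
  refine ⟨S, inferInstance, inferInstance, inferInstance, algebraMap R S,
    RingHom.finite_algebraMap.2 inferInstance, r, hr,
    Spec.map (CommRingCat.ofHom ψ) ≫ hV'.fromSpec, ?_, ?_⟩
  · refine ⟨(⟨Q, hQ⟩ : PrimeSpectrum (Localization.Away r)), ?_⟩
    refine Eq.trans ?_ hp
    change hV'.fromSpec (PrimeSpectrum.comap ψ ⟨Q, hQ⟩) = _
    exact congrArg _ (PrimeSpectrum.ext hQp)
  · rw [Category.assoc, ← hφ, ← Spec.map_comp, ← Spec.map_comp]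
    congr 1
    ext x
    exact RingHom.congr_fun hcomm x

end K349.NagataChart
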