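import Groth.Agent.EtpbcA.ConstrTop

/-!
# Chains of retrocompact opens adapted to finitely many constructible sets
-/

set_option autoImplicit false
universe u

open Topology Set

namespace K349.OpenChain

variable {X : Type*} [TopologicalSpace X]

/-- A chain of retrocompact opens from `∅` to the whole space such that the members of a finite set of
retrocompact opens do not separate points of a difference of consecutive opens. -/
theorem exists_chain (W : Set (Set X)) (hW : W.Finite)
    (hW' : ∀ V ∈ W, IsOpen V ∧ IsRetrocompact V) :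
    ∃ (n : ℕ) (U : ℕ → Set X), U 0 = ∅ ∧ (∀ k, n ≤ k → U k = univ) ∧
      (∀ k, IsOpen (U k) ∧ IsRetrocompact (U k)) ∧ (∀ k, U k ⊆ U (k + 1)) ∧
      ∀ k, ∀ x ∈ U (k + 1) \ U k, ∀ y ∈ U (k + 1) \ U k, ∀ V ∈ W, (x ∈ V ↔ y ∈ V) := by
  induction W, hW using Set.Finite.induction_on with
  | empty =>
    refine ⟨1, fun k => if k = 0 then ∅ else univ, rfl, ?_, ?_, ?_, ?_⟩
    · intro k hk
      have : k ≠ 0 := by omega
      simp [this]
    · intro k
      by_cases hk : k = 0
      · simp only [hk, if_true]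
        exact ⟨isOpen_empty, IsRetrocompact.empty⟩
      · simp only [hk, if_false]
        exact ⟨isOpen_univ, IsRetrocompact.univ⟩
    · intro k
      simp
    · intro k x _ y _ V hV
      exact absurd hV (Set.notMem_empty V)
  | @insert V₀ W _ _ ih =>
    obtain ⟨n, U, h0, hn, ho, hmono, hsep⟩ := ih fun V hV => hW' V (Or.inr hV)
    have hV₀ := hW' V₀ (Or.inl rfl)
    let U' : ℕ → Set X := fun k => if k % 2 = 0 then U (k / 2) else
      U (k / 2) ∪ (U (k / 2 + 1) ∩ V₀)
    have he : ∀ m, U' (2 * m) = U m := fun m => by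
      have h1 : 2 * m % 2 = 0 := by omega
      have h2 : 2 * m / 2 = m := by omega
      simp only [U', h1, h2, if_true]
    have hod : ∀ m, U' (2 * m + 1) = U m ∪ (U (m + 1) ∩ V₀) := fun m => by
      have h1 : (2 * m + 1) % 2 ≠ 0 := by omega
      have h2 : (2 * m + 1) / 2 = m := by omega
      simp only [U', h1, h2, if_false]
    have hcase : ∀ k, ∃ m, k = 2 * m ∨ k = 2 * m + 1 := fun k => ⟨k / 2, by omega⟩
    refine ⟨2 * n, U', (he 0).trans h0, ?_, ?_, ?_, ?_⟩
    · intro k hk
      obtain ⟨m, rfl | rfl⟩ := hcase k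
      · rw [he, hn m (by omega)]
      · rw [hod, hn m (by omega), Set.univ_union]
    · intro k
      obtain ⟨m, rfl | rfl⟩ := hcase k
      · rw [he]
        exact ho m
      · rw [hod]
        exact ⟨(ho m).1.union ((ho (m + 1)).1.inter hV₀.1),
          (ho m).2.union ((ho (m + 1)).2.inter_isOpen hV₀.2 hV₀.1)⟩
    · intro k
      obtain ⟨m, rfl | rfl⟩ := hcase k
      · rw [he, hod]
        exact Set.subset_union_left
      · rw [hod, show 2 * m + 1 + 1 = 2 * (m + 1) by omega, he]
        exact Set.union_subset (hmono m) Set.inter_subset_left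
    · intro k x hx y hy V hV
      obtain ⟨m, rfl | rfl⟩ := hcase k
      · rw [he, hod] at hx hy
        have hx1 : x ∈ U (m + 1) \ U m ∧ x ∈ V₀ := by
          rcases hx.1 with h | h
          · exact absurd h hx.2
          · exact ⟨⟨h.1, hx.2⟩, h.2⟩
        have hy1 : y ∈ U (m + 1) \ U m ∧ y ∈ V₀ := by
          rcases hy.1 with h | h
          · exact absurd h hy.2
          · exact ⟨⟨h.1, hy.2⟩, h.2⟩
        rcases hV with rfl | hV
        · exact ⟨fun _ => hy1.2, fun _ => hx1.2⟩
        · exact hsep m x hx1.1 y hy1.1 V hV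
      · rw [hod, show 2 * m + 1 + 1 = 2 * (m + 1) by omega, he] at hx hy
        have hx1 : x ∈ U (m + 1) \ U m ∧ x ∉ V₀ :=
          ⟨⟨hx.1, fun h => hx.2 (Or.inl h)⟩, fun h => hx.2 (Or.inr ⟨hx.1, h⟩)⟩
        have hy1 : y ∈ U (m + 1) \ U m ∧ y ∉ V₀ :=
          ⟨⟨hy.1, fun h => hy.2 (Or.inl h)⟩, fun h => hy.2 (Or.inr ⟨hy.1, h⟩)⟩
        rcases hV with rfl | hV
        · exact ⟨fun h => absurd h hx1.2, fun h => absurd h hy1.2⟩
        · exact hsep m x hx1.1 y hy1.1 V hV

/-- A chain of retrocompact opens such that every member of a finite family of constructible sets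
contains, or does not meet, each difference of consecutive opens. -/
theorem exists_chain_constructible {ι : Type*} [Finite ι] (C : ι → Set X)
    (hC : ∀ i, IsConstructible (C i)) :
    ∃ (n : ℕ) (U : ℕ → Set X), U 0 = ∅ ∧ (∀ k, n ≤ k → U k = univ) ∧
      (∀ k, IsOpen (U k) ∧ IsRetrocompact (U k)) ∧ (∀ k, U k ⊆ U (k + 1)) ∧
      ∀ k i, (∃ x ∈ U (k + 1) \ U k, x ∈ C i) → U (k + 1) \ U k ⊆ C i := by
  choose W hW hW' hsep using fun i => Groth.Agent.EtpbcA.ConstrTop.exists_finite_opens (hC i)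
  obtain ⟨n, U, h0, hn, ho, hmono, hs⟩ := exists_chain (⋃ i, W i) (Set.finite_iUnion hW)
    (by
      intro V hV
      obtain ⟨i, hi⟩ := Set.mem_iUnion.1 hV
      exact hW' i V hi)
  refine ⟨n, U, h0, hn, ho, hmono, ?_⟩
  rintro k i ⟨x, hx, hxi⟩ y hy
  exact (hsep i x y fun V hV => hs k x hx y hy V (Set.mem_iUnion.2 ⟨i, hV⟩)).1 hxi

end K349.OpenChain
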