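import Groth.Agent.EtPBC.K349.LocData
import Groth.Agent.EtPBC.K349.FPPartition
import Groth.Agent.FlatB.ConstrAffine

/-!
# Stratified quasi-sections of surjective morphisms locally of finite presentation
-/

set_option autoImplicit false
universe u

open CategoryTheory CategoryTheory.Limits AlgebraicGeometry TensorProduct

namespace K349.QuasiSec

open K349.Tower K349.LocData K349.FPPartition

/-- Noetherian models, as a cartesian square. -/
theorem exists_noeth (A R : Type u) [CommRing A] [CommRing R] [Algebra A R]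
    [Algebra.FinitePresentation A R] :
    ∃ (A₀ R₀ : Type u) (_ : CommRing A₀) (_ : CommRing R₀) (_ : Algebra A₀ R₀) (α : A₀ →+* A)
      (ρ : R₀ →+* R), IsNoetherianRing A₀ ∧ Algebra.FiniteType A₀ R₀ ∧
      IsPullback (Spec.map (CommRingCat.ofHom ρ)) (Spec.map (CommRingCat.ofHom (algebraMap A R)))
        (Spec.map (CommRingCat.ofHom (algebraMap A₀ R₀))) (Spec.map (CommRingCat.ofHom α)) := by
  obtain ⟨A₀, R₀, _, _, _, _, h1, h2, ⟨e⟩⟩ := Groth.Agent.FlatB.ConstrAffine.exists_model A R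
  have hA₀ : IsNoetherianRing A₀ := Algebra.FiniteType.isNoetherianRing ℤ A₀
  refine ⟨A₀, R₀, inferInstance, inferInstance, inferInstance, algebraMap A₀ A,
    e.toRingHom.comp (Algebra.TensorProduct.includeRight : R₀ →ₐ[A₀] A ⊗[A₀] R₀).toRingHom,
    hA₀, inferInstance, ?_⟩
  have hpo : IsPushout (CommRingCat.ofHom (algebraMap A₀ A)) (CommRingCat.ofHom (algebraMap A₀ R₀))
      (CommRingCat.ofHom (algebraMap A R)) (CommRingCat.ofHom (e.toRingHom.comp
        (Algebra.TensorProduct.includeRight : R₀ →ₐ[A₀] A ⊗[A₀] R₀).toRingHom)) :=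
    (CommRingCat.isPushout_tensorProduct A₀ A R₀).of_iso (Iso.refl _) (Iso.refl _) (Iso.refl _)
      e.toRingEquiv.toCommRingCatIso (by simp) (by simp)
      (by ext x; exact e.commutes x) (by ext x; simp)
  exact isPullback_SpecMap_of_isPushout _ _ _ _ hpo.flip

/-- The affine case. -/
theorem loc_ring {A R : Type u} [CommRing A] [CommRing R] [Algebra A R]
    [Algebra.FinitePresentation A R] (Q : PrimeSpectrum R) :
    ∃ (F : Finset A) (g : A), (∀ a ∈ F, algebraMap A R a ∈ Q.asIdeal) ∧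
      algebraMap A R g ∉ Q.asIdeal ∧
      ∀ (B : Type u) [CommRing B] (φ : A →+* B), (∀ a ∈ F, φ a = 0) → IsUnit (φ g) →
        Data (Spec.map (CommRingCat.ofHom (algebraMap A R))) (Spec.map (CommRingCat.ofHom φ)) := by
  classical
  obtain ⟨A₀, R₀, _, _, _, α, ρ, hN, hft, hpb⟩ := exists_noeth A R
  have hcomm : ρ.comp (algebraMap A₀ R₀) = (algebraMap A R).comp α := by
    have h1 := hpb.w
    rw [← Spec.map_comp, ← Spec.map_comp] at h1
    have h2 := Spec.map_injective h1
    exact congrArg CommRingCat.Hom.hom h2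
  let Q₀ : Ideal R₀ := Q.asIdeal.comap ρ
  let p : Ideal A₀ := Q₀.comap (algebraMap A₀ R₀)
  have hlies : Q₀.LiesOver p := ⟨rfl⟩
  obtain ⟨g₀, hg₀, H⟩ := exists_local p Q₀
  obtain ⟨S, hS⟩ : p.FG := IsNoetherian.noetherian p
  have hmem : ∀ a : A₀, algebraMap A R (α a) ∈ Q.asIdeal ↔ a ∈ p := by
    intro a
    rw [← RingHom.comp_apply, ← hcomm]
    rfl
  refine ⟨S.image α, α g₀, ?_, ?_, ?_⟩
  · intro a ha
    obtain ⟨a₀, ha₀, rfl⟩ := Finset.mem_image.1 ha
    exact (hmem a₀).2 (hS ▸ Ideal.subset_span ha₀)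
  · exact fun h => hg₀ ((hmem _).1 h)
  · intro B _ φ hF hg
    let : Algebra A₀ B := (φ.comp α).toAlgebra
    have h1 : ∀ a ∈ p, algebraMap A₀ B a = 0 := by
      have h2 : p ≤ RingHom.ker (algebraMap A₀ B) := by
        rw [← hS]
        refine Ideal.span_le.2 fun a ha => ?_
        exact hF _ (Finset.mem_image_of_mem _ ha)
      exact fun a ha => h2 ha
    obtain ⟨T', T'', hh, gg, s, hE, hR, w⟩ := H B h1 hg
    have h3 : Spec.map (CommRingCat.ofHom (algebraMap A₀ B)) =
        Spec.map (CommRingCat.ofHom φ) ≫ Spec.map (CommRingCat.ofHom α) := by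
      rw [← Spec.map_comp, ← CommRingCat.ofHom_comp]
    refine ⟨T', T'', hh, gg, hpb.lift s (gg ≫ hh ≫ Spec.map (CommRingCat.ofHom φ)) ?_, hE, hR,
      hpb.lift_snd _ _ _⟩
    rw [w, h3, Category.assoc, Category.assoc]

theorem loc_of_surjective {X Y : Scheme.{u}} (f : X ⟶ Y) [Surjective f]
    [LocallyOfFinitePresentation f] {A : CommRingCat.{u}} (j : Spec A ⟶ Y)
    (q : PrimeSpectrum A) : Loc (fun _ e => Data f e) j q := by
  obtain ⟨x, hx⟩ := (inferInstance : Surjective f).surj (j q)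
  obtain ⟨z, hz1, hz2⟩ := Scheme.Pullback.exists_preimage_pullback (f := f) (g := j) x q hx
  obtain ⟨_, ⟨W, hW, rfl⟩, hzW, -⟩ := (pullback f j).isBasis_affineOpens.exists_subset_of_mem_open
    (Set.mem_univ z) isOpen_univ
  have hW' : IsAffineOpen W := hW
  obtain ⟨φ, hφ⟩ := Spec.map_surjective (hW'.fromSpec ≫ pullback.snd f j)
  have hfp : φ.hom.FinitePresentation := by
    rw [← HasRingHomProperty.Spec_iff (P := @LocallyOfFinitePresentation), hφ]
    infer_instance
  algebraize [φ.hom]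
  obtain ⟨Q, hQ⟩ : z ∈ Set.range hW'.fromSpec := by
    rw [hW'.range_fromSpec]
    exact hzW
  have hQq : Spec.map φ Q = q := by
    rw [hφ, Scheme.Hom.comp_apply, hQ]
    exact hz2
  obtain ⟨F, g, h1, h2, H⟩ := loc_ring (A := A) (R := Γ(pullback f j, W)) Q
  refine ⟨F, g, fun a ha => ?_, fun h => h2 ?_, ?_⟩
  · rw [← hQq]
    exact h1 a ha
  · rw [← hQq] at h
    exact h
  · intro B _ ψ hF hg
    obtain ⟨T', T'', hh, gg, s, hE, hR, w⟩ := H B ψ hF hg
    refine ⟨T', T'', hh, gg, s ≫ hW'.fromSpec ≫ pullback.fst f j, hE, hR, ?_⟩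
    have h3 : Spec.map (CommRingCat.ofHom (algebraMap A Γ(pullback f j, W))) = Spec.map φ := rfl
    rw [h3, hφ] at w
    rw [Category.assoc, Category.assoc, pullback.condition, ← Category.assoc hW'.fromSpec,
      ← Category.assoc s, w]
    simp only [Category.assoc]

theorem exists_partition_quasiSection {X Y : Scheme.{u}} (f : X ⟶ Y) [Surjective f]
    [LocallyOfFinitePresentation f] [CompactSpace Y] [QuasiSeparatedSpace Y] :
    ∃ (m : ℕ) (T : Fin m → Scheme.{u}) (e : ∀ i, T i ⟶ Y),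
      (∀ i, IsImmersion (e i) ∧ LocallyOfFinitePresentation (e i) ∧ QuasiCompact (e i)) ∧
      Pairwise (fun i j => Disjoint (Set.range (e i)) (Set.range (e j))) ∧
      (⋃ i, Set.range (e i)) = Set.univ ∧ ∀ i, Data f (e i) :=
  exists_partition (fun _ e => Data f e) fun _ j _ q => loc_of_surjective f j q

end K349.QuasiSec
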