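import Groth.Agent.S3508
import Groth.Agent.S0133
import Groth.Agent.Etrest.ExtZeroComp
import Groth.Agent.EtpbcA.ConsExact
import Groth.Agent.EtpbcA.OverSite2

/-!
# Extension by zero along an étale morphism of qcqs schemes preserves constructibility
-/

set_option autoImplicit false
universe u

open CategoryTheory CategoryTheory.Limits AlgebraicGeometry Opposite Topology

namespace K349.ShriekCons

open Groth.Agent Groth.Agent.EtpbcA

variable {U X : Scheme.{u}} (f : U ⟶ X) [Etale f] [EtShriek.JCont f]

/-- `f_! (j_! M) ≅ (V → U → X)_! M`. -/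
noncomputable def extZeroExtZeroConst (V : U.Etale) (M : Type) [AddCommGroup M] :
    (EtShriek.extZero f).obj (EtPBC.extZeroConst V M) ≅
      EtPBC.extZeroConst ((EtShriek.compEtale f).obj V) M := by
  haveI : Etale (OverSite.str V ≫ f) := inferInstance
  exact (EtShriek.extZero f).mapIso (OverSite2.extZeroConstIso V M) ≪≫
    (Etrest.ExtZeroComp.extZeroComp (OverSite.str V) f).app (EtCoh.const V.left M) ≪≫
    (OverSite2.extZeroConstIso ((EtShriek.compEtale f).obj V) M).symm

/-- `f_!` of a finite direct sum of sheaves `j_! M`. -/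
noncomputable def extZeroBiproduct (b : ℕ) (V : Fin b → U.Etale) (m : Fin b → ℕ) :
    (EtShriek.extZero f).obj (⨁ fun j => EtPBC.extZeroConst (V j) (ZMod (m j))) ≅
      ⨁ fun j => EtPBC.extZeroConst ((EtShriek.compEtale f).obj (V j)) (ZMod (m j)) :=
  haveI : (EtShriek.extZero f).IsLeftAdjoint := (EtShriek.extZeroAdj f).isLeftAdjoint
  haveI : PreservesBinaryBiproducts (EtShriek.extZero f) :=
    preservesBinaryBiproducts_of_preservesBinaryCoproducts _
  haveI : (EtShriek.extZero f).Additive := Functor.additive_of_preservesBinaryBiproducts _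
  (EtShriek.extZero f).mapBiproduct _ ≪≫
    biproduct.mapIso fun j => extZeroExtZeroConst f (V j) (ZMod (m j))

/-- `f_!` preserves constructibility for `f` étale between qcqs schemes. -/
theorem isConstructible_extZero [CompactSpace X] [QuasiSeparatedSpace X] [CompactSpace U]
    [QuasiSeparatedSpace U] (F : EtCoh.Ab U) (hF : EtPBC.IsConstructible F) :
    EtPBC.IsConstructible ((EtShriek.extZero f).obj F) := by
  obtain ⟨a, b, A, B, n, m, hA, hB, φ, ⟨e⟩⟩ := (Groth.Agent.S3508.result U F).1 hF
  haveI : (EtShriek.extZero f).IsLeftAdjoint := (EtShriek.extZeroAdj f).isLeftAdjoint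
  rw [Groth.Agent.S3508.result]
  refine ⟨a, b, fun i => (EtShriek.compEtale f).obj (A i), fun i => (EtShriek.compEtale f).obj (B i),
    n, m, hA, hB, (extZeroBiproduct f b B m).inv ≫ (EtShriek.extZero f).map φ ≫
      (extZeroBiproduct f a A n).hom, ⟨?_⟩⟩
  refine (EtShriek.extZero f).mapIso e ≪≫ ?_
  haveI : (EtShriek.extZero f).PreservesZeroMorphisms := by
    haveI : PreservesBinaryBiproducts (EtShriek.extZero f) :=
      preservesBinaryBiproducts_of_preservesBinaryCoproducts _
    haveI : (EtShriek.extZero f).Additive := Functor.additive_of_preservesBinaryBiproducts _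
    infer_instance
  exact PreservesCokernel.iso (EtShriek.extZero f) φ ≪≫
    cokernel.mapIso _ _ (extZeroBiproduct f b B m) (extZeroBiproduct f a A n) (by simp)

end K349.ShriekCons
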