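import Groth.Agent.Etrest.FLCFlat
import Groth.Agent.EtpbcB.GeomPointIndep
import Groth.Agent.Sga4B.SpecLocConst
import Groth.Agent.Sga4B.Spread

/-!
# Finite local constancy near a point and specialization maps
-/

set_option autoImplicit false
universe u

open CategoryTheory CategoryTheory.Limits AlgebraicGeometry Opposite Topology

namespace K349.SpecNear

open Groth.Agent Groth.Agent.EtpbcA Groth.Agent.EtpbcA.ConsVan Groth.Agent.EtpbcA.ConsPull
open Groth.Agent.EtpbcA.Germ (Fib fmap pt pt_fmap hom_pt exists_lift germ germ_eq_iff germ_res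
  germ_surj_over exists_geomPt)
open Groth.Agent.Sga4B.SpecLocConst

variable {X : Scheme.{u}} {F : EtCoh.Ab X}

theorem van_iff_germ {U : X.Etale} {Ω : Type u} [Field Ω] [IsSepClosed Ω]
    (ξ : Spec (CommRingCat.of Ω) ⟶ X) (t : Fib ξ U) (s : EtCoh.sect F U) :
    Van F s (pt ξ t) ↔ germ ξ F t s = 0 := by
  have h0 : germ ξ F t s = 0 ↔ germ ξ F t s = germ ξ F t 0 := by rw [map_zero]
  rw [h0, germ_eq_iff]
  constructor
  · rintro ⟨V, g, v, hv, h⟩
    obtain ⟨t', ht', -⟩ := exists_lift ξ g t v hv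
    exact ⟨V, g, t', ht', by rw [map_zero]; exact h⟩
  · rintro ⟨V, g, t', ht', h⟩
    refine ⟨V, g, pt ξ t', ?_, ?_⟩
    · rw [← ht', pt_fmap]
    · rw [map_zero] at h
      exact h

/-- Bijectivity on germs at a geometric point, in the pointwise formulation. -/
theorem bijAt_iff {U : X.Etale} {M : Type} [AddCommGroup M] (φ : M →+ EtCoh.sect F U)
    {Ω : Type u} [Field Ω] [IsSepClosed Ω] (ξ : Spec (CommRingCat.of Ω) ⟶ X) (t : Fib ξ U) :
    BijAt φ ξ t ↔ InjAt F φ (pt ξ t) ∧ SurjAt F φ (pt ξ t) := by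
  have hinj : Function.Injective (fun m => germ ξ F t (φ m)) ↔ InjAt F φ (pt ξ t) := by
    have : (fun m => germ ξ F t (φ m)) = ((germ ξ F t).comp φ) := rfl
    rw [this, injective_iff_map_eq_zero]
    refine forall_congr' fun m => ?_
    rw [van_iff_germ]
    rfl
  have hsurj : Function.Surjective (fun m => germ ξ F t (φ m)) ↔ SurjAt F φ (pt ξ t) := by
    constructor
    · intro h V g v hv s
      obtain ⟨t', ht', hpt⟩ := exists_lift ξ g t v hv
      obtain ⟨m, hm⟩ := h (germ ξ F t' s)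
      refine ⟨m, ?_⟩
      rw [← hpt, van_iff_germ, map_sub, sub_eq_zero]
      rw [← hm, ← ht']
      exact (germ_res ξ F g t' (φ m)).symm
    · intro h a
      obtain ⟨V, g, t', s, ht', rfl⟩ := germ_surj_over ξ F t a
      obtain ⟨m, hm⟩ := h V g (pt ξ t') (by rw [← ht', pt_fmap]) s
      refine ⟨m, ?_⟩
      rw [van_iff_germ, map_sub, sub_eq_zero] at hm
      rw [hm, ← ht']
      exact (germ_res ξ F g t' (φ m)).symm
  rw [← hinj, ← hsurj]
  rfl

/-- If a finite group of sections over `U` is bijective on germs at all points of an open `O`, then `F` is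
finite locally constant on the image of `O`. -/
theorem isFLC_of_good {U : X.Etale} {M : Type} [AddCommGroup M] [Finite M]
    (φ : M →+ EtCoh.sect F U) (O : U.left.Opens) (hO : ∀ c ∈ O, InjAt F φ c ∧ SurjAt F φ c)
    (V : X.Opens) (hV : (V : Set X) ⊆ U.hom '' (O : Set U.left)) :
    EtCoh.IsFiniteLocallyConstant ((EtCoh.pull V.ι).obj F) := by
  rw [ConsFLC.isFLC_iff]
  intro x
  obtain ⟨c, hc, hcx⟩ := hV x.2
  let W := (EtCoh.bc V.ι).obj (EqLocus.openSub U O)
  obtain ⟨w, hw1, hw2⟩ := Scheme.Pullback.exists_preimage_pullback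
    (f := (EqLocus.openSub U O).hom) (g := V.ι) (⟨c, hc⟩ : O) x hcx
  refine ⟨W, w, hw2, M, inferInstance, inferInstance,
    (eta V.ι F (EqLocus.openSub U O)).comp (resHom (EqLocus.openι U O) φ), fun y => ?_⟩
  rw [injAt_eta_iff, surjAt_eta_iff, injAt_res_iff, surjAt_res_iff]
  refine hO _ ?_
  have := EqLocus.range_openι U O
  change _ ∈ (O : Set U.left)
  rw [← this]
  exact ⟨_, rfl⟩

/-- If `F` is finite locally constant on an open `U` containing `x`, there is an étale neighbourhood of `x` in `X`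
with a finite group of sections of `F` which is bijective on germs at all points. -/
theorem exists_good_of_isFLC {x : X} (U : X.Opens) (hx : x ∈ U)
    (h : EtCoh.IsFiniteLocallyConstant ((EtCoh.pull U.ι).obj F)) :
    ∃ (V : X.Etale) (v : V.left) (_ : V.hom v = x) (M : Type) (_ : AddCommGroup M) (_ : Finite M)
      (φ : M →+ EtCoh.sect F V), ∀ y, InjAt F φ y ∧ SurjAt F φ y := by
  obtain ⟨V, v, hv, M, i1, i2, φ, hφ⟩ := (ConsFLC.isFLC_iff _).1 h ⟨x, hx⟩
  obtain ⟨U', φ', W, a, b, w, haw, hab⟩ := ConsSpread.exists_spread U.ι F v φ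
  let k : W.left ⟶ U'.left := b.left ≫ fstBc U.ι U'
  have hgood : ∀ w', InjAt F φ' (k w') ∧ SurjAt F φ' (k w') := by
    intro w'
    have e : resHom b ((eta U.ι F U').comp φ') = resHom a φ := by
      ext m
      exact (hab m).symm
    have h1 : InjAt ((EtCoh.pull U.ι).obj F) (resHom b ((eta U.ι F U').comp φ')) w' ∧
        SurjAt ((EtCoh.pull U.ι).obj F) (resHom b ((eta U.ι F U').comp φ')) w' := by
      rw [e, injAt_res_iff, surjAt_res_iff]
      exact hφ _
    rw [injAt_res_iff, surjAt_res_iff, injAt_eta_iff, surjAt_eta_iff] at h1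
    exact h1
  have hke : Etale k := by
    have h1 : Etale b.left := inferInstance
    have h2 : Etale (fstBc U.ι U') := inferInstanceAs (Etale (pullback.fst U'.hom U.ι))
    exact inferInstanceAs (Etale (b.left ≫ fstBc U.ι U'))
  have hko : IsOpen (Set.range k) := k.isOpenMap.isOpen_range
  let O : U'.left.Opens := ⟨Set.range k, hko⟩
  refine ⟨EqLocus.openSub U' O, ⟨k w, ⟨w, rfl⟩⟩, ?_, M, i1, i2, resHom (EqLocus.openι U' O) φ',
    fun y => ?_⟩
  · have h1 : U'.hom (k w) = x := by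
      have e1 : fstBc U.ι U' ≫ U'.hom = ((EtCoh.bc U.ι).obj U').hom ≫ U.ι := pullback.condition
      have e2 : b.left ≫ ((EtCoh.bc U.ι).obj U').hom = W.hom := MorphismProperty.Over.w b
      have e3 : a.left ≫ V.hom = W.hom := MorphismProperty.Over.w a
      have e4 : k ≫ U'.hom = a.left ≫ V.hom ≫ U.ι := by
        rw [← Category.assoc, e3, ← e2, Category.assoc, Category.assoc, e1]
      have e5 := congrArg (fun (q : W.left ⟶ X) => q w) e4
      have e6 : U'.hom (k w) = U.ι (V.hom (a.left w)) := e5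
      rw [e6, haw, hv]
      rfl
    exact h1
  · rw [injAt_res_iff, surjAt_res_iff]
    have h2 : (EqLocus.openι U' O).left y ∈ Set.range k := by
      have := EqLocus.range_openι U' O
      have h3 : (EqLocus.openι U' O).left y ∈ Set.range (EqLocus.openι U' O).left := ⟨y, rfl⟩
      rw [this] at h3
      exact h3
    obtain ⟨w', hw'⟩ := h2
    rw [← hw']
    exact hgood w'

theorem isFLC_near_iff (hF : EtPBC.IsConstructible F) {x : X} {Ω : Type u} [Field Ω]
    [IsSepClosed Ω] (ξ : Spec (CommRingCat.of Ω) ⟶ X) (hξ : ξ default = x) :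
    (∃ U : X.Opens, x ∈ U ∧ EtCoh.IsFiniteLocallyConstant ((EtCoh.pull U.ι).obj F)) ↔
      ∀ (Ω' : Type u) [Field Ω'] [IsSepClosed Ω'] (ξ' : Spec (CommRingCat.of Ω') ⟶ X)
        (a : Scheme.pointSmallEtale ξ' ⟶ Scheme.pointSmallEtale ξ),
        Function.Bijective (spMap a F) := by
  constructor
  · rintro ⟨U, hxU, h⟩ Ω' _ _ ξ' a
    obtain ⟨V, v, hv, M, _, _, φ, hφ⟩ := exists_good_of_isFLC U hxU h
    obtain ⟨t, -⟩ := Scheme.pointSmallEtaleFiberObjToPreimage_surjective ξ rfl V
      ⟨v, by rw [Set.mem_preimage, Set.mem_singleton_iff]; exact hv.trans hξ.symm⟩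
    have h1 : BijAt φ ξ t := (bijAt_iff φ ξ t).2 (hφ _)
    have h2 : BijAt φ ξ' (a.hom.app V t) := (bijAt_iff φ ξ' _).2 (hφ _)
    unfold BijAt at h1 h2
    rw [germ_comp_spMap] at h2
    rwa [Function.Bijective.of_comp_iff _ h1] at h2
  · intro h
    have := EtpbcB.GeomPointIndep.finite_stalk_of_constructible ξ F hF
    obtain ⟨U, t, M, _, _, φ, hφ⟩ := Sga4B.Spread.exists_spread ξ F
    have hE := ConsLocus.isLocallyConstructible_good hF U φ
    obtain ⟨O, hO, hOE⟩ := Etrest.FLCFlat.exists_open_of_generizations hE (pt ξ t) (by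
      intro y hy
      obtain ⟨Ω'', _, _, ζ, s, rfl⟩ := exists_geomPt (X := X) y
      obtain ⟨a, ha⟩ := exists_arrow t s hy
      have h1 : BijAt φ ζ (a.hom.app U t) := (bijAt_iff_of_bijective φ a _ (h _ _ a)).1 hφ
      rw [ha] at h1
      exact (bijAt_iff φ ζ s).1 h1)
    have hUe : Etale U.hom := U.prop
    have hopen : IsOpen (U.hom '' (O : Set U.left)) := U.hom.isOpenMap _ O.isOpen
    refine ⟨⟨_, hopen⟩, ⟨pt ξ t, hO, (hom_pt ξ t).trans hξ⟩, ?_⟩
    exact isFLC_of_good φ O (fun c hc => hOE hc) _ (subset_refl _)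

end K349.SpecNear
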