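import Groth.Agent.Flat2E.PurInsepScheme
import Groth.Agent.Flat2E.FinEtaleSpread
import Mathlib.FieldTheory.SeparableClosure
import Mathlib.FieldTheory.Minpoly.IsIntegrallyClosed
import Mathlib.FieldTheory.PurelyInseparable.Tower
import Mathlib.RingTheory.Flat.FaithfullyFlat.Basic
import Mathlib.AlgebraicGeometry.Morphisms.Flat
import Mathlib.AlgebraicGeometry.Morphisms.FinitePresentation
import Mathlib.AlgebraicGeometry.Morphisms.Etale

/-!
# Integral models of finite field extensions: a tower of monogenic free algebras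
-/

set_option autoImplicit false
universe u

open Polynomial CategoryTheory AlgebraicGeometry

namespace K349.Tower

/-- `ι : C → E` identifies the field `E` with the fraction field of the domain `C`. -/
def IsFrac {C E : Type u} [CommRing C] [Field E] (ι : C →+* E) : Prop :=
  Function.Injective ι ∧ ∀ x : E, ∃ a s : C, ι s ≠ 0 ∧ ι s * x = ι a

theorem IsFrac.isDomain {C E : Type u} [CommRing C] [Field E] {ι : C →+* E} (h : IsFrac ι) :
    IsDomain C := h.1.isDomain ι

/-- Common denominators. -/
theorem IsFrac.exists_denom {C E : Type u} [CommRing C] [Field E] {ι : C →+* E} (h : IsFrac ι)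
    (T : Finset E) : ∃ s : C, ι s ≠ 0 ∧ ∀ x ∈ T, ∃ a : C, ι s * x = ι a := by
  classical
  induction T using Finset.induction_on with
  | empty => exact ⟨1, by rw [map_one]; exact one_ne_zero, by simp⟩
  | insert x T _ ih =>
    obtain ⟨s, hs, H⟩ := ih
    obtain ⟨a, t, ht, hx⟩ := h.2 x
    refine ⟨s * t, by rw [map_mul]; exact mul_ne_zero hs ht, ?_⟩
    intro y hy
    rcases Finset.mem_insert.mp hy with rfl | hy
    · exact ⟨s * a, by rw [map_mul, mul_assoc, hx, map_mul]⟩
    · obtain ⟨b, hb⟩ := H y hy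
      exact ⟨t * b, by rw [map_mul, mul_comm (ι s), mul_assoc, hb, map_mul]⟩

/-- Every element of an extension can be scaled so that its minimal polynomial is defined over
`C`. -/
theorem IsFrac.exists_scale {C E E' : Type u} [CommRing C] [Field E] [Field E'] [Algebra E E']
    {ι : C →+* E} (h : IsFrac ι) (z : E') (hz : IsIntegral E z) :
    ∃ s : C, ι s ≠ 0 ∧ ∃ P : C[X], P.Monic ∧ P.map ι = minpoly E (ι s • z) := by
  classical
  obtain ⟨s, hs, H⟩ := h.exists_denom (minpoly E z).coeffs
  refine ⟨s, hs, ?_⟩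
  have hm : minpoly E (ι s • z) = (minpoly E z).scaleRoots (ι s) :=
    IsIntegrallyClosed.minpoly_smul hs hz
  have hmon : (minpoly E z).Monic := minpoly.monic hz
  have hl : minpoly E (ι s • z) ∈ Polynomial.lifts ι := by
    rw [Polynomial.lifts_iff_coeff_lifts]
    intro i
    rw [hm, Polynomial.coeff_scaleRoots]
    rcases lt_trichotomy i (minpoly E z).natDegree with hi | hi | hi
    · obtain ⟨k, hk⟩ : ∃ k, (minpoly E z).natDegree - i = k + 1 :=
        ⟨(minpoly E z).natDegree - i - 1, by omega⟩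
      by_cases hc : (minpoly E z).coeff i = 0
      · exact ⟨0, by rw [hc, zero_mul, map_zero]⟩
      · obtain ⟨a, ha⟩ := H _ (Polynomial.coeff_mem_coeffs hc)
        exact ⟨a * s ^ k, by rw [map_mul, map_pow, ← ha, hk, pow_succ]; ring⟩
    · subst hi
      exact ⟨1, by rw [Nat.sub_self, pow_zero, mul_one, map_one]; exact hmon.coeff_natDegree.symm⟩
    · exact ⟨0, by rw [Polynomial.coeff_eq_zero_of_natDegree_lt hi, zero_mul, map_zero]⟩
  have hmon' : (minpoly E (ι s • z)).Monic := minpoly.monic (hz.smul _)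
  obtain ⟨P, hP, -, hP'⟩ := Polynomial.lifts_and_degree_eq_and_monic hl hmon'
  exact ⟨P, hP', hP⟩

/-- The monogenic step. -/
theorem IsFrac.adjoinRoot {C E E' : Type u} [CommRing C] [Field E] [Field E'] [Algebra E E']
    {ι : C →+* E} (h : IsFrac ι) (z : E') (hz : IsIntegral E z)
    (htop : ∀ x : E', ∃ r : E[X], aeval z r = x) (P : C[X]) (hP : P.Monic)
    (hPE : P.map ι = minpoly E z) :
    ∃ φ : AdjoinRoot P →+* E', IsFrac φ ∧ φ.comp (AdjoinRoot.of P) = (algebraMap E E').comp ι := by
  have hev : P.eval₂ ((algebraMap E E').comp ι) z = 0 := by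
    rw [← Polynomial.eval₂_map, hPE, ← Polynomial.aeval_def, minpoly.aeval]
  let φ : AdjoinRoot P →+* E' := AdjoinRoot.lift ((algebraMap E E').comp ι) z hev
  have hφ : ∀ q : C[X], φ (AdjoinRoot.mk P q) = aeval z (q.map ι) := by
    intro q
    rw [AdjoinRoot.lift_mk, Polynomial.aeval_def, Polynomial.eval₂_map]
  have hφ0 : ∀ a : C, φ (AdjoinRoot.of P a) = algebraMap E E' (ι a) := fun a => by
    rw [AdjoinRoot.lift_of]; rfl
  have hdom := h.isDomain
  refine ⟨φ, ⟨?_, ?_⟩, RingHom.ext hφ0⟩
  · rw [injective_iff_map_eq_zero]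
    intro b hb
    obtain ⟨q0, rfl⟩ := AdjoinRoot.mk_surjective b
    rw [hφ] at hb
    have h1 : P.map ι ∣ q0.map ι := hPE ▸ minpoly.dvd E z hb
    rw [AdjoinRoot.mk_eq_zero]
    exact (Polynomial.map_dvd_map ι h.1 hP).1 h1
  · intro x
    obtain ⟨r, rfl⟩ := htop x
    classical
    obtain ⟨s, hs, H⟩ := h.exists_denom r.coeffs
    have hl : Polynomial.C (ι s) * r ∈ Polynomial.lifts ι := by
      rw [Polynomial.lifts_iff_coeff_lifts]
      intro i
      rw [Polynomial.coeff_C_mul]
      by_cases hc : r.coeff i = 0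
      · exact ⟨0, by rw [hc, mul_zero, map_zero]⟩
      · obtain ⟨a, ha⟩ := H _ (Polynomial.coeff_mem_coeffs hc)
        exact ⟨a, ha.symm⟩
    obtain ⟨Q, hQ⟩ := (Polynomial.mem_lifts _).1 hl
    refine ⟨AdjoinRoot.mk P Q, AdjoinRoot.of P s, ?_, ?_⟩
    · rw [hφ0]
      exact (_root_.map_ne_zero _).2 hs
    · rw [hφ0, hφ, hQ, map_mul, aeval_C]

/-! ### Geometric properties -/

/-- Finite, flat, finitely presented, surjective and radicial. -/
def GoodR {T' T : Scheme.{u}} (g : T' ⟶ T) : Prop :=
  IsFinite g ∧ Surjective g ∧ Flat g ∧ LocallyOfFinitePresentation g ∧ UniversallyInjective g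

theorem GoodR.comp {T'' T' T : Scheme.{u}} {g : T'' ⟶ T'} {h : T' ⟶ T} (hg : GoodR g)
    (hh : GoodR h) : GoodR (g ≫ h) := by
  obtain ⟨_, _, _, _, _⟩ := hg
  obtain ⟨_, _, _, _, _⟩ := hh
  exact ⟨inferInstance, inferInstance, inferInstance, inferInstance,
    MorphismProperty.comp_mem @UniversallyInjective _ _ inferInstance inferInstance⟩

theorem GoodR.of_isIso {T' T : Scheme.{u}} (g : T' ⟶ T) [IsIso g] : GoodR g :=
  ⟨inferInstance, inferInstance, inferInstance, inferInstance, inferInstance⟩

theorem GoodR.of_isPullback {T' T S' S : Scheme.{u}} {g' : S' ⟶ S} {a : S' ⟶ T'} {b : S ⟶ T}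
    {g : T' ⟶ T} (h : IsPullback a g' g b) (hg : GoodR g) : GoodR g' := by
  obtain ⟨h1, h2, h3, h4, h5⟩ := hg
  exact ⟨MorphismProperty.of_isPullback h h1, MorphismProperty.of_isPullback h h2,
    MorphismProperty.of_isPullback h h3, MorphismProperty.of_isPullback h h4,
    MorphismProperty.of_isPullback h h5⟩

/-- Finite etale and surjective. -/
def GoodE {T' T : Scheme.{u}} (g : T' ⟶ T) : Prop :=
  IsFinite g ∧ Surjective g ∧ Etale g

theorem GoodE.of_isPullback {T' T S' S : Scheme.{u}} {g' : S' ⟶ S} {a : S' ⟶ T'} {b : S ⟶ T}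
    {g : T' ⟶ T} (h : IsPullback a g' g b) (hg : GoodE g) : GoodE g' := by
  obtain ⟨h1, h2, h3⟩ := hg
  exact ⟨MorphismProperty.of_isPullback h h1, MorphismProperty.of_isPullback h h2,
    MorphismProperty.of_isPullback h h3⟩

/-- Surjectivity of a finite injective extension. -/
theorem surjective_spec {A B : Type u} [CommRing A] [CommRing B] (φ : A →+* B)
    (hφ : φ.IsIntegral) (hinj : Function.Injective φ) :
    Surjective (Spec.map (CommRingCat.ofHom φ)) := by
  algebraize [φ]
  constructor
  intro (P : PrimeSpectrum A)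
  obtain ⟨Q, -, hQ, hQ2⟩ := Ideal.exists_ideal_over_prime_of_isIntegral (R := A) (S := B) P.asIdeal ⊥
    (by
      have : RingHom.ker (algebraMap A B) = ⊥ := (RingHom.injective_iff_ker_eq_bot _).1 hinj
      change RingHom.ker (algebraMap A B) ≤ _
      rw [this]
      exact bot_le)
  exact ⟨⟨Q, hQ⟩, PrimeSpectrum.ext hQ2⟩

/-- `C → C[X]/(X^q - c)` is finite, flat, of finite presentation, surjective on spectra and
radicial when `q` is a power of the exponential characteristic. -/
theorem goodR_adjoinRoot {C : Type u} [CommRing C] [IsDomain C] (p n : ℕ) [ExpChar C p]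
    (c : C) : GoodR (Spec.map (CommRingCat.ofHom
      (AdjoinRoot.of (X ^ (p ^ n) - Polynomial.C c : C[X])))) := by
  have hp0 : p ^ n ≠ 0 := pow_ne_zero _ (expChar_pos C p).ne'
  set P : C[X] := X ^ (p ^ n) - Polynomial.C c with hPdef
  have hP : P.Monic := monic_X_pow_sub_C c hp0
  have hfin : Module.Finite C (AdjoinRoot P) := hP.finite_adjoinRoot
  have hfree : Module.Free C (AdjoinRoot P) := hP.free_adjoinRoot
  have hint : Algebra.IsIntegral C (AdjoinRoot P) := inferInstance
  have hdeg : 0 < P.degree := by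
    rw [hPdef, degree_X_pow_sub_C (Nat.pos_of_ne_zero hp0)]
    exact_mod_cast Nat.pos_of_ne_zero hp0
  have hinj : Function.Injective (AdjoinRoot.of P) := by
    rw [injective_iff_map_eq_zero]
    intro a ha
    by_contra hne
    rw [← AdjoinRoot.mk_C, AdjoinRoot.mk_eq_zero] at ha
    exact hP.not_dvd_of_degree_lt (Polynomial.C_ne_zero.mpr hne)
      (lt_of_le_of_lt Polynomial.degree_C_le hdeg) ha
  have hexp : ExpChar (AdjoinRoot P) p := expChar_of_injective_ringHom hinj p
  have hroot : AdjoinRoot.root P ^ (p ^ n) = AdjoinRoot.of P c := by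
    have h := AdjoinRoot.eval₂_root P
    rw [hPdef, eval₂_sub, eval₂_pow, eval₂_X, eval₂_C] at h
    exact sub_eq_zero.1 h
  have hpow : ∀ b : AdjoinRoot P, b ^ (p ^ n) ∈ (algebraMap C (AdjoinRoot P)).range := by
    intro b
    obtain ⟨q, rfl⟩ := AdjoinRoot.mk_surjective b
    induction q using Polynomial.induction_on' with
    | add q r hq hr =>
      rw [map_add, add_pow_expChar_pow]
      exact Subring.add_mem _ hq hr
    | monomial m a =>
      rw [← C_mul_X_pow_eq_monomial, map_mul, map_pow, mul_pow, ← pow_mul, mul_comm m, pow_mul,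
        AdjoinRoot.mk_X, hroot]
      refine Subring.mul_mem _ (Subring.pow_mem _ (RingHom.mem_range_self _ a) _)
        (Subring.pow_mem _ (RingHom.mem_range_self _ c) _)
  have hfp : Algebra.FinitePresentation C (AdjoinRoot P) := inferInstance
  have huh := Groth.Agent.Flat2E.PurInsepScheme.isUnivHomeo_Spec (A := C) (B := AdjoinRoot P)
    (by
      have : RingHom.ker (algebraMap C (AdjoinRoot P)) = ⊥ :=
        (RingHom.injective_iff_ker_eq_bot _).1 hinj
      rw [this]
      exact bot_le) p n hpow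
  rw [Groth.Agent.S0415.result] at huh
  obtain ⟨-, h4, h5⟩ := huh
  refine ⟨?_, h5, ?_, ?_, h4⟩
  · rw [IsFinite.SpecMap_iff]
    exact RingHom.finite_algebraMap.mpr hfin
  · rw [Flat.SpecMap_iff]
    exact RingHom.flat_algebraMap_iff.mpr inferInstance
  · rw [LocallyOfFinitePresentation.SpecMap_iff]
    exact RingHom.finitePresentation_algebraMap.mpr hfp

theorem IsFrac.comp_algebraMap {C E L : Type u} [CommRing C] [Field E] [Field L] [Algebra E L]
    {ι : C →+* E} (h : IsFrac ι) (hs : Function.Surjective (algebraMap E L)) :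
    IsFrac ((algebraMap E L).comp ι) := by
  refine ⟨(algebraMap E L).injective.comp h.1, fun x => ?_⟩
  obtain ⟨y, rfl⟩ := hs x
  obtain ⟨a, s, hs0, hy⟩ := h.2 y
  refine ⟨a, s, ?_, ?_⟩
  · rw [RingHom.comp_apply]
    exact (_root_.map_ne_zero _).2 hs0
  · rw [RingHom.comp_apply, RingHom.comp_apply, ← map_mul, hy]

theorem insep_tower (n : ℕ) : ∀ (C E L : Type u) [CommRing C] [Field E] [Field L] [Algebra E L]
    [FiniteDimensional E L] [IsPurelyInseparable E L] (ι : C →+* E) (_ : IsFrac ι)
    (_ : Module.finrank E L = n),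
    ∃ (C'' : Type u) (_ : CommRing C'') (b : C →+* C'') (ψ : C'' →+* L),
      IsFrac ψ ∧ ψ.comp b = (algebraMap E L).comp ι ∧ GoodR (Spec.map (CommRingCat.ofHom b)) := by
  induction n using Nat.strong_induction_on with
  | _ n ih =>
  intro C E L _ _ _ _ _ _ ι h hn
  by_cases hs : Function.Surjective (algebraMap E L)
  · refine ⟨C, inferInstance, RingHom.id C, (algebraMap E L).comp ι, h.comp_algebraMap hs, rfl, ?_⟩
    have : IsIso (Spec.map (CommRingCat.ofHom (RingHom.id C))) := by
      rw [show CommRingCat.ofHom (RingHom.id C) = 𝟙 (CommRingCat.of C) from rfl, Spec.map_id]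
      infer_instance
    exact GoodR.of_isIso _
  · obtain ⟨z, hz⟩ : ∃ z : L, ∀ x, algebraMap E L x ≠ z := by
      by_contra hc
      push Not at hc
      exact hs hc
    obtain ⟨s, hs0, P, hP, hPE⟩ := h.exists_scale z (IsIntegral.of_finite E z)
    set z' : L := ι s • z with hz'
    obtain ⟨p, hp⟩ := ExpChar.exists E
    obtain ⟨k, y, hy⟩ := IsPurelyInseparable.minpoly_eq_X_pow_sub_C E p z'
    have hdom := h.isDomain
    have hpC : ExpChar C p := (RingHom.expChar_iff ι h.1 p).2 hp
    have hp0 : p ^ k ≠ 0 := pow_ne_zero _ (expChar_pos C p).ne'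
    -- `P = X^(p^k) - c`
    have hPc : P = X ^ (p ^ k) - Polynomial.C (-P.coeff 0) := by
      apply Polynomial.map_injective ι h.1
      have h0 : ι (P.coeff 0) = - y := by
        rw [← Polynomial.coeff_map, hPE, hy, coeff_sub, coeff_X_pow, coeff_C_zero,
          if_neg hp0.symm, zero_sub]
      rw [hPE, hy, Polynomial.map_sub, Polynomial.map_pow, Polynomial.map_X, Polynomial.map_C,
        map_neg, h0, neg_neg]
    let E₁ : IntermediateField E L := IntermediateField.adjoin E {z'}
    have hz'E : IsIntegral E z' := IsIntegral.of_finite E z'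
    have hmin : minpoly E (IntermediateField.AdjoinSimple.gen E z') = minpoly E z' :=
      IntermediateField.minpoly_gen E z'
    obtain ⟨φ, hφ, hφc⟩ := h.adjoinRoot (E' := E₁) (IntermediateField.AdjoinSimple.gen E z')
      (by exact IsIntegral.of_finite E _) (by
        intro x
        obtain ⟨r, hr⟩ := (IntermediateField.adjoin.powerBasis hz'E).exists_eq_aeval' x
        exact ⟨r, hr.symm⟩) P hP (by rw [hPE, hmin])
    have hlt : Module.finrank E₁ L < n := by
      have h1 : Module.finrank E E₁ * Module.finrank E₁ L = n := by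
        rw [← hn]
        exact Module.finrank_mul_finrank E E₁ L
      have h2 : 0 < Module.finrank E₁ L := Module.finrank_pos
      have h3 : 0 < Module.finrank E E₁ := Module.finrank_pos
      have h4 : Module.finrank E E₁ ≠ 1 := by
        intro h5
        rw [IntermediateField.finrank_eq_one_iff] at h5
        have h6 : z' ∈ (⊥ : IntermediateField E L) := by
          rw [← h5]
          exact IntermediateField.mem_adjoin_simple_self E z'
        obtain ⟨x, hx⟩ := IntermediateField.mem_bot.1 h6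
        refine hz ((ι s)⁻¹ * x) ?_
        rw [map_mul, hx, hz', Algebra.smul_def, ← mul_assoc, ← map_mul, inv_mul_cancel₀ hs0,
          map_one, one_mul]
      have h7 : 2 ≤ Module.finrank E E₁ := by omega
      rw [← h1]
      nlinarith
    have hpi : IsPurelyInseparable E₁ L := IsPurelyInseparable.tower_top E E₁ L
    obtain ⟨C'', _, b, ψ, hψ, hb, hgood⟩ := ih _ hlt (AdjoinRoot P) E₁ L φ hφ rfl
    refine ⟨C'', inferInstance, b.comp (AdjoinRoot.of P), ψ, hψ, ?_, ?_⟩
    · rw [← RingHom.comp_assoc, hb, RingHom.comp_assoc, hφc, ← RingHom.comp_assoc]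
      rfl
    · rw [CommRingCat.ofHom_comp, Spec.map_comp]
      refine hgood.comp ?_
      have := goodR_adjoinRoot p k (-P.coeff 0)
      rw [← hPc] at this
      exact this

theorem IsFrac.exists_lift {C E : Type u} [CommRing C] [Field E]
    {ι : C →+* E} (h : IsFrac ι) (r : E[X]) :
    ∃ s : C, ι s ≠ 0 ∧ ∃ Q : C[X], Q.map ι = Polynomial.C (ι s) * r := by
  classical
  obtain ⟨s, hs, H⟩ := h.exists_denom r.coeffs
  refine ⟨s, hs, ?_⟩
  have hl : Polynomial.C (ι s) * r ∈ Polynomial.lifts ι := by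
    rw [Polynomial.lifts_iff_coeff_lifts]
    intro i
    rw [Polynomial.coeff_C_mul]
    by_cases hc : r.coeff i = 0
    · exact ⟨0, by rw [hc, mul_zero, map_zero]⟩
    · obtain ⟨a, ha⟩ := H _ (Polynomial.coeff_mem_coeffs hc)
      exact ⟨a, ha.symm⟩
  exact (Polynomial.mem_lifts _).1 hl

/-- `D → D[X]/P` is finite etale surjective for `P` monic of positive degree with
`(P, P') = 1`. -/
theorem goodE_adjoinRoot {D : Type u} [CommRing D] (P : D[X]) (hP : P.Monic)
    (hdeg : 0 < P.degree) (hc : IsCoprime P (derivative P)) :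
    GoodE (Spec.map (CommRingCat.ofHom (AdjoinRoot.of P))) := by
  have hfin : Module.Finite D (AdjoinRoot P) := hP.finite_adjoinRoot
  have het : Algebra.Etale D (AdjoinRoot P) :=
    Groth.Agent.Flat2E.FinEtaleSpread.etale_adjoinRoot P hP hc
  have hinj : Function.Injective (AdjoinRoot.of P) := by
    rw [injective_iff_map_eq_zero]
    intro a ha
    by_contra hne
    rw [← AdjoinRoot.mk_C, AdjoinRoot.mk_eq_zero] at ha
    exact hP.not_dvd_of_degree_lt (Polynomial.C_ne_zero.mpr hne)
      (lt_of_le_of_lt Polynomial.degree_C_le hdeg) ha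
  refine ⟨?_, surjective_spec _ ?_ hinj, ?_⟩
  · rw [IsFinite.SpecMap_iff]
    exact RingHom.finite_algebraMap.mpr hfin
  · exact algebraMap_isIntegral_iff.mpr (inferInstance : Algebra.IsIntegral D (AdjoinRoot P))
  · exact (HasRingHomProperty.Spec_iff (P := @Etale)).2 (RingHom.etale_algebraMap.2 het)

theorem exists_tower {D K L : Type u} [CommRing D] [Field K] [Field L] [Algebra K L]
    [FiniteDimensional K L] (ι : D →+* K) (h : IsFrac ι) :
    ∃ (g : D) (_ : ι g ≠ 0), ∀ (D₁ : Type u) [CommRing D₁] [Algebra D D₁]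
      [IsLocalization.Away g D₁],
      ∃ (C' C'' : Type u) (_ : CommRing C') (_ : CommRing C'') (a : D₁ →+* C') (b : C' →+* C'')
        (ψ : C'' →+* L), IsFrac ψ ∧
        (∀ d : D, ψ (b (a (algebraMap D D₁ d))) = algebraMap K L (ι d)) ∧
        GoodE (Spec.map (CommRingCat.ofHom a)) ∧ GoodR (Spec.map (CommRingCat.ofHom b)) := by
  have hdom := h.isDomain
  obtain ⟨z, hz⟩ := Field.exists_primitive_element K (separableClosure K L)
  obtain ⟨s, hs, P, hP, hPK⟩ := h.exists_scale z (IsIntegral.of_finite K z)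
  set z' : separableClosure K L := ι s • z with hz'
  have hz'i : IsIntegral K z' := IsIntegral.of_finite K z'
  have htop : ∀ x : separableClosure K L, ∃ r : K[X], aeval z' r = x := by
    intro x
    have hx : x ∈ IntermediateField.adjoin K {z'} := by
      have h1 : IntermediateField.adjoin K {z} ≤ IntermediateField.adjoin K {z'} := by
        rw [IntermediateField.adjoin_simple_le_iff]
        have h2 : z = (ι s)⁻¹ • z' := by rw [hz', smul_smul, inv_mul_cancel₀ hs, one_smul]
        rw [h2]
        exact IntermediateField.smul_mem _ (IntermediateField.mem_adjoin_simple_self K z')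
      exact h1 (hz ▸ IntermediateField.mem_top)
    obtain ⟨r, hr⟩ := (IntermediateField.adjoin.powerBasis hz'i).exists_eq_aeval' ⟨x, hx⟩
    refine ⟨r, ?_⟩
    have h2 := congrArg (algebraMap (IntermediateField.adjoin K {z'}) (separableClosure K L)) hr
    rw [← Polynomial.aeval_algebraMap_apply] at h2
    exact h2.symm
  obtain ⟨u, v, huv⟩ : (minpoly K z').Separable := Algebra.IsSeparable.isSeparable K z'
  obtain ⟨s1, hs1, U, hU⟩ := h.exists_lift u
  obtain ⟨s2, hs2, V, hV⟩ := h.exists_lift v
  have hUV : Polynomial.C s2 * U * P + Polynomial.C s1 * V * derivative P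
      = Polynomial.C (s1 * s2) := by
    apply Polynomial.map_injective ι h.1
    simp only [Polynomial.map_add, Polynomial.map_mul, Polynomial.map_C, hU, hV, map_mul]
    rw [← Polynomial.derivative_map, hPK]
    linear_combination (Polynomial.C (ι s1) * Polynomial.C (ι s2)) * huv
  refine ⟨s1 * s2, by rw [map_mul]; exact mul_ne_zero hs1 hs2, ?_⟩
  intro D₁ _ _ _
  have hu : IsUnit (algebraMap D D₁ (s1 * s2)) := IsLocalization.Away.algebraMap_isUnit _
  have hιu : IsUnit (ι (s1 * s2)) := by
    rw [map_mul]; exact (mul_ne_zero hs1 hs2).isUnit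
  let ι₁ : D₁ →+* K := IsLocalization.Away.lift (s1 * s2) hιu
  have hι₁ : ∀ d, ι₁ (algebraMap D D₁ d) = ι d := fun d => IsLocalization.Away.lift_eq _ hιu d
  have hfrac : IsFrac ι₁ := by
    constructor
    · rw [injective_iff_map_eq_zero]
      intro x hx
      obtain ⟨⟨d, m, hm⟩, hd⟩ := IsLocalization.surj (Submonoid.powers (s1 * s2)) x
      have hd' : x * algebraMap D D₁ m = algebraMap D D₁ d := hd
      have h1 : ι d = 0 := by
        rw [← hι₁, ← hd', map_mul, hx, zero_mul]
      have h2 : d = 0 := h.1 (by rw [h1, map_zero])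
      have h3 : IsUnit (algebraMap D D₁ m) :=
        IsLocalization.map_units D₁ (⟨m, hm⟩ : Submonoid.powers (s1 * s2))
      rw [h2, map_zero] at hd'
      exact h3.mul_left_eq_zero.1 hd'
    · intro x
      obtain ⟨a, t, ht, hx⟩ := h.2 x
      exact ⟨algebraMap D D₁ a, algebraMap D D₁ t, by rwa [hι₁], by rw [hι₁, hι₁, hx]⟩
  let P₁ : D₁[X] := P.map (algebraMap D D₁)
  have hP₁ : P₁.Monic := hP.map _
  have hP₁K : P₁.map ι₁ = minpoly K z' := by
    rw [Polynomial.map_map, ← hPK]
    congr 1
    exact RingHom.ext hι₁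
  have hdeg : 0 < P₁.degree := by
    have : P₁.degree = (minpoly K z').degree := by
      rw [← hP₁K, hP₁.degree_map]
    rw [this]
    exact minpoly.degree_pos hz'i
  have hcop : IsCoprime P₁ (derivative P₁) := by
    obtain ⟨w, hw⟩ := hu
    refine ⟨Polynomial.C (↑w⁻¹ : D₁) * (Polynomial.C s2 * U).map (algebraMap D D₁),
      Polynomial.C (↑w⁻¹ : D₁) * (Polynomial.C s1 * V).map (algebraMap D D₁), ?_⟩
    have h1 := congrArg (Polynomial.map (algebraMap D D₁)) hUV
    rw [Polynomial.map_C, ← hw, Polynomial.map_add, Polynomial.map_mul (p := Polynomial.C s2 * U),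
      Polynomial.map_mul (p := Polynomial.C s1 * V), ← Polynomial.derivative_map] at h1
    have h2 : Polynomial.C (↑w⁻¹ : D₁) * Polynomial.C (w : D₁) = 1 := by
      rw [← Polynomial.C_mul, Units.inv_mul, Polynomial.C_1]
    rw [← h2, ← h1]
    ring
  obtain ⟨φ, hφ, hφc⟩ := hfrac.adjoinRoot z' hz'i htop P₁ hP₁ hP₁K
  have hpi : IsPurelyInseparable (separableClosure K L) L :=
    separableClosure.isPurelyInseparable K L
  obtain ⟨C'', _, b, ψ, hψ, hb, hgood⟩ := insep_tower _ (AdjoinRoot P₁) (separableClosure K L) L φ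
    hφ rfl
  refine ⟨AdjoinRoot P₁, C'', inferInstance, inferInstance, AdjoinRoot.of P₁, b, ψ, hψ, ?_,
    goodE_adjoinRoot P₁ hP₁ hdeg hcop, hgood⟩
  intro d
  have h1 := RingHom.congr_fun hb (AdjoinRoot.of P₁ (algebraMap D D₁ d))
  have h2 := RingHom.congr_fun hφc (algebraMap D D₁ d)
  simp only [RingHom.comp_apply] at h1 h2
  rw [h1, h2, hι₁]
  rfl

end K349.Tower
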