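import Groth.Agent.Sga4B.ExtendLC
import Groth.Agent.Pi1C.StrictHensPoint
import Groth.Agent.S0754
import Groth.Agent.S0537
import Mathlib.AlgebraicGeometry.Morphisms.UniversallyOpen

/-!
# Locally constant functions on schemes étale over a geometrically unibranch irreducible scheme
-/

set_option autoImplicit false
universe u

open CategoryTheory CategoryTheory.Limits AlgebraicGeometry Opposite TopologicalSpace

namespace K349.Unibranch

open Groth.Agent Groth.Agent.Sga4B.ExtendLC

/-- On a scheme étale over a geometrically unibranch one, two generizations of a point have a common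
generization. -/
theorem exists_common_generization {X V : Scheme.{u}} (a : V ⟶ X) [Etale a] (v : V)
    (hX : ∀ (R : Type u) [CommRing R] [IsLocalRing R] [Algebra (X.presheaf.stalk (a v)) R]
      [IsLocalHom (algebraMap (X.presheaf.stalk (a v)) R)]
      [Hensel.IsStrictHenselization (X.presheaf.stalk (a v)) R],
      IrreducibleSpace (PrimeSpectrum R))
    (p q : V) (hp : p ⤳ v) (hq : q ⤳ v) : ∃ η, η ⤳ p ∧ η ⤳ q := by
  obtain ⟨R, _, _, _, _, hR⟩ := Groth.Agent.S0537.result (X.presheaf.stalk (a v))
  have hirr : IrreducibleSpace (PrimeSpectrum R) := hX R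
  have hhens : HenselianLocalRing R := hR.henselian
  have hsep : IsSepClosed (IsLocalRing.ResidueField R) := by
    have := hR.isSepClosure
    exact IsSepClosure.sep_closed (IsLocalRing.ResidueField (X.presheaf.stalk (a v)))
  have hwe : WeaklyEtale (Hens2.specOf X (a v) R) := Groth.Agent.S0754.result X (a v) R
  have hcl : (Hens2.specOf X (a v) R) (IsLocalRing.closedPoint R) = a v := by
    change X.fromSpecStalk (a v)
      (PrimeSpectrum.comap (algebraMap (X.presheaf.stalk (a v)) R) (IsLocalRing.closedPoint R)) = _
    rw [IsLocalRing.comap_closedPoint]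
    exact Scheme.fromSpecStalk_closedPoint
  obtain ⟨t, ht, htv⟩ := Groth.Agent.Pi1C.StrictHensPoint.exists_lift_of_etale a v R
    (Hens2.specOf X (a v) R) hcl
  have hwe' : WeaklyEtale (t ≫ a) := by rw [ht]; exact hwe
  have hwt : WeaklyEtale t := WeaklyEtale.of_comp t a
  have hgen : GeneralizingMap t := Flat.generalizingMap t
  rw [← htv] at hp hq
  obtain ⟨p', -, rfl⟩ := hgen hp
  obtain ⟨q', -, rfl⟩ := hgen hq
  have hirr' : IrreducibleSpace (Spec (CommRingCat.of R)) := hirr
  refine ⟨t (genericPoint (Spec (CommRingCat.of R))), ?_, ?_⟩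
  · exact (genericPoint_specializes p').map t.continuous
  · exact (genericPoint_specializes q').map t.continuous

/-- Locally constant functions extend along a quasi-compact dominant embedding `h : W ⟶ V`, with
range stable under generization, if generizations of points of `V` have common generizations. -/
theorem exists_extend {W V : Scheme.{u}} (h : W ⟶ V) [QuasiCompact h] (hd : DenseRange h)
    (hind : Topology.IsInducing h) (hgen : StableUnderGeneralization (Set.range h))
    (hdom : ∀ v p q : V, p ⤳ v → q ⤳ v → ∃ η, η ⤳ p ∧ η ⤳ q) {A : Type*}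
    (g : LocallyConstant W A) :
    ∃ G : LocallyConstant V A, ∀ w, G (h w) = g w := by
  have hex : ∀ v : V, ∃ w, h w ⤳ v := by
    intro v
    obtain ⟨U, hU, hvU, -⟩ := exists_isAffineOpen_mem_and_subset (X := V) (x := v) (U := ⊤) trivial
    have hc : IsCompact ((h ⁻¹ᵁ U : W.Opens) : Set W) :=
      QuasiCompact.isCompact_preimage (f := h) U.1 U.2 hU.isCompact
    obtain ⟨w, -, hw⟩ := exists_specializes h (h ⁻¹ᵁ U) hc U hU le_rfl v hvU (by
      rw [mem_closure_iff]
      intro O hO hvO
      obtain ⟨y, hy, w, rfl⟩ := hd.inter_open_nonempty (O ∩ U.1) (hO.inter U.2) ⟨v, hvO, hvU⟩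
      exact ⟨h w, hy.1, w, hy.2, rfl⟩)
    exact ⟨w, hw⟩
  have huniq : ∀ (v : V) (w w' : W), h w ⤳ v → h w' ⤳ v → g w = g w' := by
    intro v w w' hw hw'
    obtain ⟨η, h1, h2⟩ := hdom v _ _ hw hw'
    obtain ⟨w'', rfl⟩ := hgen h1 ⟨w, rfl⟩
    rw [← eq_of_specializes g (hind.specializes_iff.1 h1),
      ← eq_of_specializes g (hind.specializes_iff.1 h2)]
  choose F hF using hex
  have hG : IsLocallyConstant (fun v => g (F v)) := by
    rw [IsLocallyConstant.iff_exists_open]
    intro v
    obtain ⟨U, hU, hvU, -⟩ := exists_isAffineOpen_mem_and_subset (X := V) (x := v) (U := ⊤) trivial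
    have hc : IsCompact ((h ⁻¹ᵁ U : W.Opens) : Set W) :=
      QuasiCompact.isCompact_preimage (f := h) U.1 U.2 hU.isCompact
    let C : W.Opens := ⟨(h ⁻¹ᵁ U : W.Opens).1 ∩ (g ⁻¹' {g (F v)}ᶜ),
      (h ⁻¹ᵁ U : W.Opens).2.inter (g.isLocallyConstant _)⟩
    have hC : IsCompact (C : Set W) := by
      apply hc.inter_right
      rw [← isOpen_compl_iff, ← Set.preimage_compl, compl_compl]
      exact g.isLocallyConstant _
    have hvC : v ∉ closure (h '' (C : Set W)) := by
      intro hv
      obtain ⟨w, hw, hwv⟩ := exists_specializes h C hC U hU (fun x hx => hx.1) v hvU hv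
      exact hw.2 (huniq v w (F v) hwv (hF v))
    refine ⟨U.1 ∩ (closure (h '' (C : Set W)))ᶜ, U.2.inter isClosed_closure.isOpen_compl,
      ⟨hvU, hvC⟩, ?_⟩
    rintro v' ⟨hv'1, hv'2⟩
    by_contra hne
    have h1 : h (F v') ∈ U := (hF v').mem_open U.2 hv'1
    have h2 : F v' ∈ C := ⟨h1, hne⟩
    apply hv'2
    exact closure_mono (Set.singleton_subset_iff.2 (Set.mem_image_of_mem h h2))
      (specializes_iff_mem_closure.1 (hF v'))
  exact ⟨⟨_, hG⟩, fun w => huniq (h w) _ _ (hF _) specializes_rfl⟩

/-- Under the same assumptions, restriction of locally constant functions is bijective. -/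
theorem comap_bijective {W V : Scheme.{u}} (h : W ⟶ V) [QuasiCompact h] (hd : DenseRange h)
    (hind : Topology.IsInducing h) (hgen : StableUnderGeneralization (Set.range h))
    (hdom : ∀ v p q : V, p ⤳ v → q ⤳ v → ∃ η, η ⤳ p ∧ η ⤳ q) (A : Type*) :
    Function.Bijective (LocallyConstant.comap (Z := A) (h.base.hom : C(W, V))) := by
  constructor
  · intro a b hab
    ext v
    have : (fun v => a v) = fun v => b v := by
      let _ : TopologicalSpace A := ⊥
      have : DiscreteTopology A := ⟨rfl⟩
      refine hd.equalizer a.continuous b.continuous ?_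
      funext w
      exact congrArg (fun k : LocallyConstant W A => k w) hab
    exact congrFun this v
  · intro g
    obtain ⟨G, hG⟩ := exists_extend h hd hind hgen hdom g
    exact ⟨G, LocallyConstant.ext hG⟩

theorem bijective_generic (X : Scheme.{u}) [IrreducibleSpace X]
    (hX : ∀ (x : X) (R : Type u) [CommRing R] [IsLocalRing R] [Algebra (X.presheaf.stalk x) R]
      [IsLocalHom (algebraMap (X.presheaf.stalk x) R)]
      [Hensel.IsStrictHenselization (X.presheaf.stalk x) R], IrreducibleSpace (PrimeSpectrum R))
    {V : Scheme.{u}} (a : V ⟶ X) [Etale a] (A : Type*) :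
    Function.Bijective (LocallyConstant.comap (Z := A)
      ((pullback.fst a (X.fromSpecResidueField (genericPoint X))).base.hom : C(_, V))) := by
  have hopen : IsOpenMap a := a.isOpenMap
  have hr0 : Set.range (X.fromSpecResidueField (genericPoint X)) = {genericPoint X} :=
    Scheme.range_fromSpecResidueField _
  have hr : Set.range (pullback.fst a (X.fromSpecResidueField (genericPoint X))) =
      a ⁻¹' {genericPoint X} := by
    rw [← hr0]
    exact Scheme.Pullback.range_fst a _
  have hqc : QuasiCompact (X.fromSpecResidueField (genericPoint X)) :=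
    ⟨fun U _ _ => Set.Finite.isCompact (Set.toFinite _)⟩
  refine comap_bijective (pullback.fst a (X.fromSpecResidueField (genericPoint X))) ?_ ?_ ?_
    (fun v p q => exists_common_generization a v (hX (a v)) p q) _
  · change Dense (Set.range (pullback.fst a _))
    rw [hr]
    exact Dense.preimage (dense_iff_closure_eq.2 (genericPoint_closure X)) hopen
  · exact (pullback.fst a (X.fromSpecResidueField (genericPoint X))).isEmbedding.isInducing
  · rw [hr]
    intro x y hxy hx
    have h1 : a y ⤳ a x := hxy.map a.continuous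
    have h2 : a x = genericPoint X := hx
    rw [h2] at h1
    exact (h1.antisymm (genericPoint_specializes _)).eq

end K349.Unibranch
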